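import Groth.Agent.H54.IndQAff
import Groth.Agent.Lib.GrpdQuot.Invariant

/-!
# Finite sets of points lie in affine opens of schemes quasi-finite separated over affines
-/

set_option autoImplicit false
set_option linter.style.haveILetI false

universe u

open CategoryTheory CategoryTheory.Limits AlgebraicGeometry

namespace Groth.Agent.Lib.Bootstrap.QFin

theorem exists_affineOpen_of_quasiAffine {X : Scheme.{u}} [X.IsQuasiAffine] (O : Set X)
    (hO : O.Finite) : ∃ W : X.Opens, IsAffineOpen W ∧ O ⊆ (W : Set X) := by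
  let ι := X.toSpecΓ
  obtain ⟨f, hf, hOf⟩ := GrpdQuot.exists_basicOpen_le_of_finite
    (isAffineOpen_top (Spec Γ(X, ⊤))) (W := ι.opensRange) (ι '' O) (hO.image _)
    (by rintro _ ⟨x, -, rfl⟩; exact ⟨x, rfl⟩) (Set.subset_univ _)
  exact ⟨ι ⁻¹ᵁ (Spec Γ(X, ⊤)).basicOpen f,
    ((isAffineOpen_top _).basicOpen f).preimage_of_isOpenImmersion ι hf,
    fun x hx => hOf ⟨x, hx, rfl⟩⟩

theorem exists_affineOpen_of_finite {X Y : Scheme.{u}} [IsAffine Y] (f : X ⟶ Y) [IsSeparated f]
    [LocallyQuasiFinite f] [LocallyOfFiniteType f] (O : Set X) (hO : O.Finite) :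
    ∃ W : X.Opens, IsAffineOpen W ∧ O ⊆ (W : Set X) := by
  choose A hA hxA _ using fun x : X =>
    exists_isAffineOpen_mem_and_subset (U := ⊤) (Set.mem_univ x)
  let V : X.Opens := ⨆ x ∈ O, A x
  have hV : IsCompact (V : Set X) := by
    have : (V : Set X) = ⋃ x ∈ O, (A x : Set X) := by simp [V]
    rw [this]
    exact hO.isCompact_biUnion fun x _ => (hA x).isCompact
  haveI : V.toScheme.IsQuasiAffine := H54.IndQAff.isIndQuasiAffineHom_le
    (H54.IndQAff.of_locallyQuasiFinite f) (isAffineOpen_top Y) (le_top.trans_eq (by rfl)) hV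
  obtain ⟨W, hW, hOW⟩ := exists_affineOpen_of_quasiAffine (X := V.toScheme) (V.ι ⁻¹' O)
    (hO.preimage V.ι.isOpenEmbedding.injective.injOn)
  refine ⟨V.ι ''ᵁ W, hW.image_of_isOpenImmersion _, fun x hx => ?_⟩
  have hxV : x ∈ V := by
    simp only [V, TopologicalSpace.Opens.mem_iSup]
    exact ⟨x, hx, hxA x⟩
  exact ⟨⟨x, hxV⟩, hOW hx, rfl⟩

end Groth.Agent.Lib.Bootstrap.QFin
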