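import Groth.Agent.Lib.Bootstrap.QFin.Pieces
import Groth.Agent.H54.Weighting

/-!
# Etale neighbourhoods carrying a piece with prescribed geometric fibre
-/

set_option autoImplicit false
set_option linter.style.haveILetI false

universe u

open CategoryTheory CategoryTheory.Limits AlgebraicGeometry Opposite

namespace Groth.Agent.Lib.Bootstrap.QFin

open Groth.Agent.Lib.AlgSpace
open Groth.Agent.H54.GeomLift (pt Lift pt_comp)
open Groth.Agent.H54

theorem isFinite_sup {X T : Scheme.{u}} (f : X ⟶ T) [IsSeparated f] [LocallyQuasiFinite f]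
    [LocallyOfFiniteType f] (A B : X.Opens) [IsFinite (A.ι ≫ f)] [IsFinite (B.ι ≫ f)] :
    IsFinite ((A ⊔ B).ι ≫ f) := by
  let ιA := X.homOfLE (le_sup_left : A ≤ A ⊔ B)
  let ιB := X.homOfLE (le_sup_right : B ≤ A ⊔ B)
  haveI : IsFinite (ιA ≫ (A ⊔ B).ι ≫ f) := by rw [X.homOfLE_ι_assoc]; infer_instance
  haveI : IsFinite (ιB ≫ (A ⊔ B).ι ≫ f) := by rw [X.homOfLE_ι_assoc]; infer_instance
  let c := coprod.desc ιA ιB
  have hc : c ≫ (A ⊔ B).ι ≫ f = coprod.desc (ιA ≫ (A ⊔ B).ι ≫ f) (ιB ≫ (A ⊔ B).ι ≫ f) :=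
    coprod.hom_ext (by simp [c]) (by simp [c])
  haveI : UniversallyClosed (c ≫ (A ⊔ B).ι ≫ f) := by rw [hc]; infer_instance
  haveI : Surjective c := ⟨fun x => by
    rcases (show x.1 ∈ A ∨ x.1 ∈ B from x.2) with h | h
    · refine ⟨(coprod.inl : A.toScheme ⟶ _) ⟨x.1, h⟩, ?_⟩
      rw [← Scheme.Hom.comp_apply, coprod.inl_desc]
      refine (A ⊔ B).ι.isOpenEmbedding.injective ?_
      rw [← Scheme.Hom.comp_apply, X.homOfLE_ι]
      rfl
    · refine ⟨(coprod.inr : B.toScheme ⟶ _) ⟨x.1, h⟩, ?_⟩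
      rw [← Scheme.Hom.comp_apply, coprod.inr_desc]
      refine (A ⊔ B).ι.isOpenEmbedding.injective ?_
      rw [← Scheme.Hom.comp_apply, X.homOfLE_ι]
      rfl⟩
  haveI : UniversallyClosed ((A ⊔ B).ι ≫ f) := UniversallyClosed.of_comp_surjective c _
  haveI : IsProper ((A ⊔ B).ι ≫ f) := { }
  exact IsFinite.of_isProper_of_locallyQuasiFinite _

theorem isFinite_sup' {X T : Scheme.{u}} (f : X ⟶ T) [IsSeparated f] [LocallyQuasiFinite f]
    [LocallyOfFiniteType f] {L : Type*} (t : Finset L) (ht : t.Nonempty) (A : L → X.Opens)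
    (h : ∀ l, IsFinite ((A l).ι ≫ f)) : IsFinite ((t.sup' ht A).ι ≫ f) := by
  refine Finset.sup'_induction ht A (p := fun B : X.Opens => IsFinite (B.ι ≫ f)) ?_ fun l _ => h l
  intro B hB C hC
  exact isFinite_sup f B C

variable {S : Scheme.{u}} {R U : Over S} {s : R ⟶ U} {e : U ⟶ R} (he : e ≫ s = 𝟙 U)

/-- The lift given by the section. -/
noncomputable def eLift {K : Type u} [Field K] (ξ : Spec (CommRingCat.of K) ⟶ U.left) :
    Lift s.left ξ :=
  ⟨ξ ≫ e.left, by rw [Category.assoc, ← Over.comp_left, he, Over.id_left, Category.comp_id]⟩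

/-- An etale neighbourhood with a piece whose geometric fibre is a given finite set. -/
theorem exists_chart [IsSeparated s.left] [LocallyQuasiFinite s.left] [LocallyOfFiniteType s.left]
    {K : Type u} [Field K] [IsAlgClosed K] (ξ : Spec (CommRingCat.of K) ⟶ U.left)
    (L : Set (Lift s.left ξ)) (hfin : L.Finite) (hL : eLift he ξ ∈ L) :
    ∃ (V : Over S) (b : V ⟶ U) (_ : Etale b.left) (ξ' : Spec (CommRingCat.of K) ⟶ V.left)
      (Q : Piece he b), ξ' ≫ b.left = ξ ∧
      ∀ q : Spec (CommRingCat.of K) ⟶ (pullback s b).left, q ≫ (pullback.snd s b).left = ξ' →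
        (pt q ∈ Q.Z ↔ ∃ l ∈ L, q ≫ (pullback.fst s b).left = l.1) := by
  classical
  haveI : Finite L := hfin.to_subtype
  let D : ∀ l : L, Weighting.Datum s.left l.1.1 := fun l => (Weighting.nonempty_datum s.left _).some
  obtain ⟨W₀, φ, hφ, ξ₀, c, hξ₀, hca, hcη⟩ := Weighting.exists_common (𝟙 U.left) ξ (fun l => (D l).V)
    (fun l => (D l).a) (fun l => (D l).η) (fun l => by rw [(D l).hη, l.1.2, Category.comp_id])
  have hca' : ∀ l, c l ≫ (D l).a = φ := fun l => by rw [hca l, Category.comp_id]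
  let W : Over S := Over.mk (φ ≫ U.hom)
  let b₀ : W ⟶ U := Over.homMk φ rfl
  have sq : IsPullback (pullback.fst s b₀).left (pullback.snd s b₀).left s.left φ :=
    (IsPullback.of_hasPullback s b₀).map (Over.forget S)
  let X := (pullback s b₀).left
  let Φ : X ≅ pullback s.left φ := sq.isoPullback
  have hΦs : Φ.hom ≫ pullback.snd s.left φ = (pullback.snd s b₀).left := sq.isoPullback_hom_snd
  have hΦf : Φ.hom ≫ pullback.fst s.left φ = (pullback.fst s b₀).left := sq.isoPullback_hom_fst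
  haveI : IsSeparated (pullback.snd s b₀).left := isSeparated_snd b₀
  haveI : LocallyQuasiFinite (pullback.snd s b₀).left :=
    MorphismProperty.of_isPullback sq ‹LocallyQuasiFinite s.left›
  haveI : LocallyOfFiniteType (pullback.snd s b₀).left :=
    MorphismProperty.of_isPullback sq ‹LocallyOfFiniteType s.left›
  let A : L → X.Opens := fun l => Φ.hom ⁻¹ᵁ ((D l).piece φ (c l) (hca' l)).opensRange
  have hA : ∀ l, IsFinite ((A l).ι ≫ (pullback.snd s b₀).left) := fun l => by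
    let i := (D l).piece φ (c l) (hca' l)
    have h1 : IsFinite (i.opensRange.ι ≫ pullback.snd s.left φ) := by
      rw [← MorphismProperty.cancel_left_of_respectsIso @IsFinite i.isoOpensRange.hom,
        ← Category.assoc, Scheme.Hom.isoOpensRange_hom_ι]
      exact (D l).isFinite_piece φ (c l) (hca' l)
    rw [← hΦs, ← Category.assoc, ← morphismRestrict_ι, Category.assoc]
    exact (MorphismProperty.cancel_left_of_respectsIso @IsFinite _ _).2 h1
  let l₀ : L := ⟨eLift he ξ, hL⟩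
  haveI := Fintype.ofFinite L
  let Z₀ : X.Opens := Finset.univ.sup' ⟨l₀, Finset.mem_univ _⟩ A
  haveI hZ₀ : IsFinite (Z₀.ι ≫ (pullback.snd s b₀).left) :=
    isFinite_sup' _ _ _ _ hA
  have hmemZ : ∀ q : Spec (CommRingCat.of K) ⟶ X, q ≫ (pullback.snd s b₀).left = ξ₀ →
      (pt q ∈ Z₀ ↔ ∃ l : L, q ≫ (pullback.fst s b₀).left = l.1.1) := fun q hq => by
    have hsup : pt q ∈ Z₀ ↔ ∃ l, pt q ∈ A l := by
      rw [show Z₀ = ⨆ l, A l from (Finset.sup'_eq_sup _ _).trans (Finset.sup_univ_eq_iSup A),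
        TopologicalSpace.Opens.mem_iSup]
    rw [hsup]
    refine exists_congr fun l => ?_
    have h2 : (q ≫ Φ.hom) ≫ pullback.snd s.left φ = ξ₀ := by rw [Category.assoc, hΦs, hq]
    constructor
    · intro hm
      have := (D l).uniq_piece φ (c l) (hca' l) (hcη l) (q ≫ Φ.hom) h2 hm
      rwa [Category.assoc, hΦf] at this
    · intro hl
      exact (D l).mem_range_piece φ (c l) (hca' l) (hcη l) (q ≫ Φ.hom)
        (by rw [Category.assoc, hΦf, hl]) h2
  let O : W.left.Opens := (eT he b₀).left ⁻¹ᵁ Z₀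
  let V : Over S := Over.mk (O.ι ≫ W.hom)
  let j : V ⟶ W := Over.homMk O.ι rfl
  have hξO : pt ξ₀ ∈ O := by
    refine (hmemZ (ξ₀ ≫ (eT he b₀).left) ?_).2 ⟨l₀, ?_⟩
    · rw [Category.assoc, ← Over.comp_left, eT_snd, Over.id_left]
      exact Category.comp_id _
    · rw [Category.assoc, ← Over.comp_left, eT_fst, Over.comp_left, ← Category.assoc]
      change (ξ₀ ≫ φ) ≫ e.left = ξ ≫ e.left
      rw [hξ₀]
  obtain ⟨ξ', hξ'⟩ : ∃ ξ' : Spec (CommRingCat.of K) ⟶ V.left, ξ' ≫ O.ι = ξ₀ := by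
    refine ⟨IsOpenImmersion.lift O.ι ξ₀ (Weighting.range_subset_of_pt_mem _ ξ₀ ?_),
      IsOpenImmersion.lift_fac _ _ _⟩
    rw [Scheme.Opens.range_ι]
    exact hξO
  let Q : Piece he (j ≫ b₀) :=
    { Z := (bc s j rfl).left ⁻¹ᵁ Z₀
      fin := isFinite_preimage rfl Z₀
      mem := fun τ => by
        change (bc s j rfl).left ((eT he (j ≫ b₀)).left τ) ∈ Z₀
        rw [← Scheme.Hom.comp_apply, ← Over.comp_left, eT_bc, Over.comp_left, Scheme.Hom.comp_apply]
        exact τ.2 }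
  haveI : Etale (j ≫ b₀).left := inferInstanceAs (Etale (O.ι ≫ φ))
  refine ⟨V, j ≫ b₀, inferInstance, ξ', Q, ?_, fun q hq => ?_⟩
  · change ξ' ≫ O.ι ≫ φ = ξ
    rw [reassoc_of% hξ', hξ₀]
  · have h1 : (q ≫ (bc s j rfl).left) ≫ (pullback.snd s b₀).left = ξ₀ := by
      rw [Category.assoc, ← Over.comp_left, bc_snd, Over.comp_left, ← Category.assoc, hq]
      exact hξ'
    have h2 : (q ≫ (bc s j rfl).left) ≫ (pullback.fst s b₀).left =
        q ≫ (pullback.fst s (j ≫ b₀)).left := by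
      rw [Category.assoc, ← Over.comp_left, bc_fst]
    have h3 := hmemZ _ h1
    simp only [h2] at h3
    refine h3.trans ⟨?_, ?_⟩
    · rintro ⟨l, hl⟩; exact ⟨l.1, l.2, hl⟩
    · rintro ⟨l, hlL, hl⟩; exact ⟨⟨l, hlL⟩, hl⟩

end Groth.Agent.Lib.Bootstrap.QFin
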