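import Groth.Agent.Lib.Bootstrap.QFin.Near

/-!
# One etale chart carrying every kind of piece
-/

set_option autoImplicit false
set_option linter.style.haveILetI false

universe u

open CategoryTheory CategoryTheory.Limits AlgebraicGeometry Opposite

namespace Groth.Agent.Lib.Bootstrap.QFin

open Groth.Agent.Lib.AlgSpace
open AlgSp (Sp yon)
open Groth.Agent.H54.GeomLift (pt Lift pt_comp)
open Groth.Agent.H54

variable {S : Scheme.{u}} {R U : Over S} {s : R ⟶ U} {e : U ⟶ R} {he : e ≫ s = 𝟙 U}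

section EqLocus

variable [IsSeparated s.left] {T T' : Over S} {a : T ⟶ U} {a' : T' ⟶ U}

theorem eqLocus_pull (P Q : Piece he a) (f : T' ⟶ T) (h : f ≫ a = a') (τ : T'.left) :
    τ ∈ eqLocus (P.pull f h) (Q.pull f h) ↔ f.left τ ∈ eqLocus P Q := by
  have sq := isPullback_bc_left (s := s) f h
  constructor
  · refine fun H => (mem_eqLocus _ _ _).2 fun y hy => ?_
    obtain ⟨y', hy', hy''⟩ := Scheme.exists_preimage_of_isPullback sq y τ hy
    rw [← hy', ← P.mem_pull, ← Q.mem_pull]
    exact (mem_eqLocus _ _ _).1 H y' hy''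
  · refine fun H => (mem_eqLocus _ _ _).2 fun y hy => (mem_eqLocus P Q _).1 H _ ?_
    rw [← Scheme.Hom.comp_apply, sq.w, Scheme.Hom.comp_apply, hy]

end EqLocus

/-- Pieces on the members of a coproduct glue. -/
theorem exists_glue {ι : Type u} (V : ι → Over S) (b₀ : sigmaOver V ⟶ U)
    (Q : ∀ i, Piece he (sigmaOverι V i ≫ b₀)) :
    ∃ Q₀ : Piece he b₀, ∀ i, Q₀.pull (sigmaOverι V i) rfl = Q i := by
  let β : ∀ i, (pullback s (sigmaOverι V i ≫ b₀)).left ⟶ (pullback s b₀).left := fun i =>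
    (bc s (sigmaOverι V i) rfl).left
  have sq : ∀ i, IsPullback (β i) (pullback.snd s (sigmaOverι V i ≫ b₀)).left
      (pullback.snd s b₀).left (Sigma.ι (fun i => (V i).left) i) := fun i => isPullback_bc_left _ rfl
  haveI hβ : ∀ i, IsOpenImmersion (β i) := fun i =>
    MorphismProperty.of_isPullback (P := @IsOpenImmersion) (sq i).flip inferInstance
  let Z₀ : (pullback s b₀).left.Opens :=
    ⟨⋃ i, β i '' (Q i).Z, isOpen_iUnion fun i => (β i).isOpenEmbedding.isOpenMap _ (Q i).Z.2⟩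
  have hdisj : ∀ i j y z, β i y = β j z → i = j := by
    intro i j y z hyz
    by_contra hij
    have h := congrArg (pullback.snd s b₀).left hyz
    rw [← Scheme.Hom.comp_apply, ← Scheme.Hom.comp_apply, (sq i).w, (sq j).w,
      Scheme.Hom.comp_apply, Scheme.Hom.comp_apply] at h
    exact (disjoint_opensRange_sigmaι (fun i => (V i).left) i j hij).le_bot
      (show Sigma.ι (fun i => (V i).left) i _ ∈ _ from ⟨⟨_, rfl⟩, ⟨_, h.symm⟩⟩)
  have hpre : ∀ i, β i ⁻¹ᵁ Z₀ = (Q i).Z := fun i => by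
    refine le_antisymm (fun y hy => ?_) fun y hy => Set.mem_iUnion.2 ⟨i, y, hy, rfl⟩
    obtain ⟨j, z, hz, hzy⟩ := Set.mem_iUnion.1 hy
    obtain rfl := hdisj j i z y hzy
    exact (β j).isOpenEmbedding.injective hzy ▸ hz
  refine ⟨⟨Z₀, ?_, fun τ => ?_⟩, fun i => Piece.ext (hpre i)⟩
  · refine IsZariskiLocalAtTarget.of_openCover (P := @IsFinite)
      (sigmaOpenCover (fun i => (V i).left)) fun i => ?_
    have sq' := (isPullback_morphismRestrict (β i) Z₀).paste_vert (sq i)
    have hf : IsFinite ((β i ⁻¹ᵁ Z₀).ι ≫ (pullback.snd s (sigmaOverι V i ≫ b₀)).left) := by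
      rw [hpre i]; exact (Q i).fin
    rw [← sq'.isoPullback_hom_snd] at hf
    exact (MorphismProperty.cancel_left_of_respectsIso @IsFinite _ _).1 hf
  · obtain ⟨i, x, rfl⟩ := (sigmaOpenCover (fun i => (V i).left)).exists_eq τ
    refine Set.mem_iUnion.2 ⟨i, _, (Q i).mem x, ?_⟩
    change (bc s (sigmaOverι V i) rfl).left ((eT he (sigmaOverι V i ≫ b₀)).left x) = _
    rw [← Scheme.Hom.comp_apply, ← Over.comp_left, eT_bc, Over.comp_left, Scheme.Hom.comp_apply]
    rfl

variable (he) in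
/-- An etale surjective chart with a piece, close to every piece near every point. -/
theorem exists_family [IsSeparated s.left] [LocallyQuasiFinite s.left]
    [LocallyOfFiniteType s.left] :
    ∃ (T₀ : Over S) (b₀ : T₀ ⟶ U) (Q₀ : Piece he b₀), Etale b₀.left ∧ Surjective b₀.left ∧
      ∀ (T : Over S) (a : T ⟶ U) (P : Piece he a) (τ : T.left),
        ∃ w : (pullback a b₀).left, (pullback.fst a b₀).left w = τ ∧
          w ∈ eqLocus (P.pull (pullback.fst a b₀) rfl)
            (Q₀.pull (pullback.snd a b₀) pullback.condition.symm) := by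
  classical
  choose K instF instA ξ hξ using fun u : U.left => GeomLift.exists_pt_eq u
  let I : Type u := Σ u : U.left, {L : Set (Lift s.left (ξ u)) // L.Finite ∧ eLift he (ξ u) ∈ L}
  choose V b hb ξ' Q hξ' hQ using fun i : I =>
    exists_chart he (ξ i.1) i.2.1 i.2.2.1 i.2.2.2
  obtain ⟨b₀, hb₀, -⟩ := existsUnique_sigmaOver_desc V (F := (yon S).obj U)
    (fun i => (yon S).map (b i))
  obtain ⟨b₀, rfl⟩ := (yon S).map_surjective b₀
  have hι : ∀ i, sigmaOverι V i ≫ b₀ = b i := fun i =>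
    (yon S).map_injective ((Functor.map_comp _ _ _).trans (hb₀ i))
  obtain ⟨Q₀, hQ₀⟩ := exists_glue V b₀ (fun i => (Q i).pull (𝟙 _) (by simp [hι i]))
  have hQ₀' : ∀ i, Q₀.pull (sigmaOverι V i) (hι i) = Q i := fun i => by
    have hi := congrArg (fun P => Piece.pull P (𝟙 _)
      (show 𝟙 _ ≫ sigmaOverι V i ≫ b₀ = b i by simp [hι i])) (hQ₀ i)
    simp only [Piece.pull_pull] at hi
    refine ((Q₀.pull_congr (Category.id_comp _).symm _).trans hi).trans ?_
    exact ((Q i).pull_congr (Category.id_comp _) _).trans (Q i).pull_id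
  have het : Etale b₀.left := by
    refine IsZariskiLocalAtSource.of_openCover (P := @Etale)
      (sigmaOpenCover (fun i => (V i).left)) fun i => ?_
    have : Sigma.ι (fun i => (V i).left) i ≫ b₀.left = (b i).left :=
      congrArg (·.left) (hι i)
    exact this ▸ hb i
  refine ⟨sigmaOver V, b₀, Q₀, het, ⟨fun u => ?_⟩, fun T a P τ => ?_⟩
  · let i : I := ⟨u, {eLift he (ξ u)}, Set.finite_singleton _, rfl⟩
    refine ⟨(sigmaOverι V i).left (pt (ξ' i)), ?_⟩
    rw [← Scheme.Hom.comp_apply, ← Over.comp_left, hι, ← pt_comp, hξ' i, hξ]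
  · obtain ⟨L, hL, heL, H⟩ :=
      exists_point_eqLocus P τ (ξ (a.left τ)) (hξ _)
    let i : I := ⟨a.left τ, L, hL, heL⟩
    obtain ⟨w, hw, hwE⟩ := H (V i) (b i) (ξ' i) (Q i) (hξ' i) (hQ i)
    let m : pullback a (b i) ⟶ pullback a b₀ :=
      pullback.lift (pullback.fst _ _) (pullback.snd _ _ ≫ sigmaOverι V i)
        (by rw [Category.assoc, hι, pullback.condition])
    have hmf : m ≫ pullback.fst a b₀ = pullback.fst a (b i) := pullback.lift_fst _ _ _
    have hms : m ≫ pullback.snd a b₀ = pullback.snd a (b i) ≫ sigmaOverι V i :=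
      pullback.lift_snd _ _ _
    refine ⟨m.left w, ?_, (eqLocus_pull _ _ m (a' := pullback.fst a (b i) ≫ a)
      (by rw [← Category.assoc, hmf]) w).1 ?_⟩
    · rw [← Scheme.Hom.comp_apply, ← Over.comp_left, hmf, hw]
    · rw [Piece.pull_pull, Piece.pull_pull, P.pull_congr hmf, Q₀.pull_congr hms]
      rw [← hQ₀' i, Piece.pull_pull] at hwE
      exact hwE

end Groth.Agent.Lib.Bootstrap.QFin
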