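import Groth.Agent.Lib.Bootstrap.QFin.Main
import Groth.Agent.Lib.AlgSpace.Coprod

/-!
# Bootstrapping: quotients of flat, locally quasi-finite relations
-/

set_option autoImplicit false
set_option linter.style.haveILetI false

universe u

open CategoryTheory CategoryTheory.Limits AlgebraicGeometry Opposite

namespace Groth.Agent.Lib.Bootstrap.QFin

open Groth.Agent.Lib.AlgSpace
open AlgSp (Sp yon IsEqvRel RepWith Representable IsAlgSpace)

variable {S : Scheme.{u}} {R U : Over S} {s t : R ⟶ U}

theorem isSeparated_left_of_affine (h : IsEqvRel s t) [IsAffine U.left] :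
    IsSeparated s.left := by
  haveI := mono_pullbackLift h
  haveI : IsSeparated U.hom := IsSeparated.of_comp U.hom (terminal.from S)
  let j := pullback.lift s.left t.left (by rw [Over.w, Over.w] : s.left ≫ U.hom = t.left ≫ U.hom)
  haveI : IsSeparated (j ≫ pullback.fst U.hom U.hom) := inferInstance
  rwa [pullback.lift_fst] at this

/-- A map of sheaves to a quotient is surjective as soon as it is so on the chart. -/
theorem isAlgSpace_quot_of_lqf (h : IsEqvRel s t) [Flat s.left]
    [LocallyOfFinitePresentation s.left] [LocallyQuasiFinite s.left] [Flat t.left]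
    [LocallyOfFinitePresentation t.left] :
    IsAlgSpace (QuotSh.quot Scheme.fppfPrecoverage s t) := by
  have hdiag := representable_diag_quot_of_lft h
  let π := quotMap s t
  haveI : Sheaf.IsLocallySurjective π := isLocallySurjective_quotMap s t
  have sqπ : IsPullback ((yon S).map t) ((yon S).map s) π π := isPullback_quot h
  choose O hO huO _ using fun u : U.left =>
    exists_isAffineOpen_mem_and_subset (U := ⊤) (Set.mem_univ u)
  -- the local quotients
  have hloc : ∀ u : U.left, ∃ (M : Over S) (a : (yon S).obj M ⟶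
      QuotSh.quot Scheme.fppfPrecoverage s t), RepWith @Etale a ∧
      ∀ (V : Over S) (g : V ⟶ U) (f : (yon S).obj V ⟶ (yon S).obj M),
        IsPullback f ((yon S).map g) a π → u ∈ Set.range g.left := by
    intro u
    let U' : Over S := Over.mk ((O u).ι ≫ U.hom)
    let g : U' ⟶ U := Over.homMk (O u).ι rfl
    haveI : IsAffine U'.left := hO u
    haveI : IsOpenImmersion g.left := inferInstanceAs (IsOpenImmersion (O u).ι)
    haveI : Mono g := Over.mono_of_mono_left _
    let R' := pullback (prod.map g g) (prod.lift t s)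
    let r : R' ⟶ R := pullback.snd _ _
    let t' : R' ⟶ U' := pullback.fst (prod.map g g) (prod.lift t s) ≫ prod.fst
    let s' : R' ⟶ U' := pullback.fst (prod.map g g) (prod.lift t s) ≫ prod.snd
    have hc := pullback.condition (f := prod.map g g) (g := prod.lift t s)
    have hrt : r ≫ t = t' ≫ g := by
      simpa only [r, t', Category.assoc, prod.map_fst, prod.lift_fst] using congr($hc ≫ prod.fst).symm
    have hrs : r ≫ s = s' ≫ g := by
      simpa only [r, s', Category.assoc, prod.map_snd, prod.lift_snd] using congr($hc ≫ prod.snd).symm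
    have hext : ∀ {T : Over S} (x y : T ⟶ R'), x ≫ t' = y ≫ t' → x ≫ s' = y ≫ s' → x = y :=
      fun x y h1 h2 => pullback.hom_ext
        (prod.hom_ext (by simpa [t'] using h1) (by simpa [s'] using h2))
        (h.injective _ _ _
          (by rw [Category.assoc, Category.assoc, hrt, reassoc_of% h1])
          (by rw [Category.assoc, Category.assoc, hrs, reassoc_of% h2]))
    have hex : ∀ {T : Over S} (a b : T ⟶ U') (c : T ⟶ R), c ≫ t = a ≫ g → c ≫ s = b ≫ g →
        ∃ x : T ⟶ R', x ≫ t' = a ∧ x ≫ s' = b ∧ x ≫ r = c := fun a b c h1 h2 =>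
      ⟨pullback.lift (prod.lift a b) c (by rw [prod.lift_map, prod.comp_lift, h1, h2]),
        by simp [t', pullback.lift_fst_assoc, prod.lift_fst],
        by simp [s', pullback.lift_fst_assoc, prod.lift_snd],
        by simp [r, pullback.lift_snd]⟩
    have h' : IsEqvRel s' t' := by
      refine ⟨fun T x y => hext x y, fun T => ⟨fun a => ?_, fun {a b} => ?_, fun {a b c} => ?_⟩⟩
      · obtain ⟨z, hz1, hz2⟩ := (h.equivalence T).refl (a ≫ g)
        obtain ⟨x, hx1, hx2, -⟩ := hex a a z hz1 hz2
        exact ⟨x, hx1, hx2⟩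
      · rintro ⟨x, rfl, rfl⟩
        obtain ⟨i, hit, his, -⟩ := exists_inverse h
        obtain ⟨y, hy1, hy2, -⟩ := hex (x ≫ s') (x ≫ t') (x ≫ r ≫ i)
          (by simp [hit, hrs]) (by simp [his, hrt])
        exact ⟨y, hy1, hy2⟩
      · rintro ⟨x, rfl, rfl⟩ ⟨y, hy1, rfl⟩
        obtain ⟨z, hz1, hz2⟩ := exists_comp h (x ≫ r) (y ≫ r) (by
          rw [Category.assoc, Category.assoc, hrs, hrt, reassoc_of% hy1])
        obtain ⟨w, hw1, hw2, -⟩ := hex (x ≫ t') (y ≫ s') z (by simp [hz1, hrt]) (by simp [hz2, hrs])
        exact ⟨w, hw1, hw2⟩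
    -- `R'` is open in `R`
    haveI : IsOpenImmersion r.left := by
      let V : R.left.Opens := s.left ⁻¹ᵁ O u ⊓ t.left ⁻¹ᵁ O u
      let RV : Over S := Over.mk (V.ι ≫ R.hom)
      let jV : RV ⟶ R := Over.homMk V.ι rfl
      have hl : ∀ (v : R ⟶ U), (∀ x ∈ V, v.left x ∈ O u) → ∃ a : RV ⟶ U', a ≫ g = jV ≫ v :=
        fun v hv => by
          have hr : Set.range (jV ≫ v).left ⊆ Set.range g.left := by
            rintro _ ⟨x, rfl⟩
            exact (O u).range_ι.symm.subset (hv _ x.2)
          exact ⟨Over.homMk (IsOpenImmersion.lift g.left (jV ≫ v).left hr)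
            (by rw [← Over.w g, IsOpenImmersion.lift_fac_assoc, Over.w]),
            Over.OverMorphism.ext (IsOpenImmersion.lift_fac _ _ _)⟩
      obtain ⟨a, ha⟩ := hl t fun x hx => hx.2
      obtain ⟨b, hb⟩ := hl s fun x hx => hx.1
      obtain ⟨k, hk1, hk2, hk3⟩ := hex a b jV ha.symm hb.symm
      have hr : Set.range r.left ⊆ Set.range jV.left := by
        rintro _ ⟨x, rfl⟩
        refine V.range_ι.symm.subset ⟨?_, ?_⟩
        · change s.left (r.left x) ∈ O u
          rw [← Scheme.Hom.comp_apply, ← Over.comp_left, hrs]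
          exact (s'.left x).2
        · change t.left (r.left x) ∈ O u
          rw [← Scheme.Hom.comp_apply, ← Over.comp_left, hrt]
          exact (t'.left x).2
      haveI : IsOpenImmersion jV.left := inferInstanceAs (IsOpenImmersion V.ι)
      haveI : Mono jV := Over.mono_of_mono_left _
      let l : R' ⟶ RV := Over.homMk (IsOpenImmersion.lift jV.left r.left hr)
        (by rw [← Over.w jV, IsOpenImmersion.lift_fac_assoc, Over.w])
      have hlr : l ≫ jV = r := Over.OverMorphism.ext (IsOpenImmersion.lift_fac _ _ _)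
      have hkl : k ≫ l = 𝟙 _ := by rw [← cancel_mono jV, Category.assoc, hlr, hk3, Category.id_comp]
      have hlk : l ≫ k = 𝟙 _ := by
        refine hext _ _ ?_ ?_ <;> rw [Category.id_comp, Category.assoc, ← cancel_mono g,
          Category.assoc]
        · rw [hk1, ha, reassoc_of% hlr, hrt]
        · rw [hk2, hb, reassoc_of% hlr, hrs]
      haveI : IsIso l := ⟨k, hlk, hkl⟩
      haveI : IsIso l.left := inferInstanceAs (IsIso ((Over.forget S).map l))
      rw [← hlr]
      exact IsOpenImmersion.comp l.left jV.left
    have hs' : s'.left ≫ g.left = r.left ≫ s.left := by rw [← Over.comp_left, ← hrs]; rfl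
    have ht' : t'.left ≫ g.left = r.left ≫ t.left := by rw [← Over.comp_left, ← hrt]; rfl
    haveI : LocallyOfFinitePresentation (s'.left ≫ g.left) := by rw [hs']; infer_instance
    haveI : LocallyOfFinitePresentation s'.left :=
      Flat55.FibreTransfer.locallyOfFinitePresentation_of_comp (g := g.left) ‹_› inferInstance
    haveI : Flat s'.left := by
      have : Flat (s'.left ≫ g.left) := by rw [hs']; infer_instance
      have sq : IsPullback (𝟙 _) s'.left (s'.left ≫ g.left) g.left :=
        IsPullback.of_isLimit' ⟨by simp⟩ (PullbackCone.IsLimit.mk _ (fun c => c.fst)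
          (fun c => Category.comp_id _)
          (fun c => by rw [← cancel_mono g.left, Category.assoc]; exact c.condition)
          fun c l h1 _ => by rw [← h1]; exact (Category.comp_id _).symm)
      exact MorphismProperty.of_isPullback sq this
    haveI : LocallyQuasiFinite s'.left := by
      haveI : LocallyQuasiFinite r.left := LocallyQuasiFinite.of_injective r.left.injective
      haveI : LocallyQuasiFinite (s'.left ≫ g.left) := by rw [hs']; infer_instance
      exact LocallyQuasiFinite.of_comp s'.left g.left
    haveI := isSeparated_left_of_affine h'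
    have hF' := isAlgSpace_quot_affine h'
    let π' := quotMap s' t'
    haveI : Sheaf.IsLocallySurjective π' := isLocallySurjective_quotMap s' t'
    obtain ⟨φ, hφ⟩ := exists_desc π' (isPullback_quot h') ((yon S).map g ≫ π) (by
      rw [← Functor.map_comp_assoc, ← Functor.map_comp_assoc, ← hrs, ← hrt, Functor.map_comp,
        Functor.map_comp, Category.assoc, Category.assoc, sqπ.w])
    have hsq : IsPullback (prod.lift t' s') r (prod.map g g) (prod.lift t s) := by
      rw [show prod.lift t' s' = pullback.fst (prod.map g g) (prod.lift t s) from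
        prod.hom_ext (by simp [t', prod.lift_fst]) (by simp [s', prod.lift_snd])]
      exact IsPullback.of_hasPullback _ _
    haveI : Flat g.left := inferInstance
    haveI : LocallyOfFinitePresentation g.left := inferInstance
    have hφo : RepWith @IsOpenImmersion φ :=
      repWith_isOpenImmersion_of_restrict sqπ (isPullback_quot h').w.symm hsq hφ
    obtain ⟨M, a₀, ha₀, ha₀s⟩ := hF'.atlas
    refine ⟨M, a₀ ≫ φ, repWith_comp ha₀
      (repWith_mono hφo fun _ _ f (_ : IsOpenImmersion f) => (inferInstance : Etale f)),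
      fun V gV f sq => ?_⟩
    obtain ⟨V', g', f', sq', hg'⟩ := repWith_exists ha₀s π'
    obtain ⟨v, hv⟩ := (yon S).map_surjective (sq.lift f' ((yon S).map (g' ≫ g)) (by
      rw [reassoc_of% sq'.w, hφ, Functor.map_comp, Category.assoc]))
    have hvg : v ≫ gV = g' ≫ g :=
      (yon S).map_injective (by rw [Functor.map_comp, hv, sq.lift_snd])
    obtain ⟨x, hx⟩ := g'.left.surjective (⟨u, huO u⟩ : (O u).toScheme)
    refine ⟨v.left x, ?_⟩
    rw [← Scheme.Hom.comp_apply, ← Over.comp_left, hvg, Over.comp_left, Scheme.Hom.comp_apply, hx]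
    rfl
  choose M a ha hcov using hloc
  obtain ⟨A, hA, -⟩ := existsUnique_sigmaOver_desc M a
  have hAe : RepWith @Etale A := by
    refine repWith_of_inj (isColimitSigmaOver M) (h := A) @Etale fun i => ?_
    exact (hA i).symm ▸ ha i
  haveI : MorphismProperty.IsLocalAtTarget @Surjective.{u} Scheme.fppfPrecoverage :=
    isLocalAtTarget_fppf_surjective
  obtain ⟨V, f, g, sq⟩ := exists_isPullback_yon hdiag A π
  refine ⟨hdiag, sigmaOver M, A, hAe, repWith_of_isLocallySurjective hAe.rep π sq @Surjective
    (repWith_surjective_yon_map ⟨fun u => ?_⟩)⟩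
  obtain ⟨Vu, fu, gu, squ⟩ := exists_isPullback_yon hdiag (a u) π
  obtain ⟨x, hx⟩ := hcov u Vu gu _ squ
  obtain ⟨v, hv⟩ := (yon S).map_surjective (sq.lift ((yon S).map (fu ≫ sigmaOverι M u))
    ((yon S).map gu) (by rw [Functor.map_comp, Category.assoc, hA u, squ.w]))
  have hvg : v ≫ g = gu := (yon S).map_injective (by rw [Functor.map_comp, hv, sq.lift_snd])
  exact ⟨v.left x, by rw [← Scheme.Hom.comp_apply, ← Over.comp_left, hvg, hx]⟩

end Groth.Agent.Lib.Bootstrap.QFin
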