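import Groth.Agent.Lib.Bootstrap.QFin.Translate
import Groth.Agent.Lib.Bootstrap.QFin.Affine
import Groth.Agent.Lib.GrpdQuot.OfEqvRel

/-!
# The finite locally free relation on the universal family, and its quotient
-/

set_option autoImplicit false
set_option linter.style.haveILetI false

universe u

open CategoryTheory CategoryTheory.Limits AlgebraicGeometry Opposite

namespace Groth.Agent.Lib.Bootstrap.QFin

open Groth.Agent.Lib.AlgSpace
open AlgSp (Sp yon IsEqvRel)

variable {S : Scheme.{u}} {R U : Over S} {s t : R ⟶ U}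

/-- An etale cover of `U` with a finite locally free sub-relation of the induced relation which is
open, and its scheme quotient. -/
theorem exists_finite_relation (h : IsEqvRel s t) [IsAffine U.left] [IsSeparated s.left]
    [LocallyQuasiFinite s.left] [Flat s.left] [LocallyOfFinitePresentation s.left] :
    ∃ (W P M : Over S) (aW : W ⟶ U) (σ q : P ⟶ W) (ρ : P ⟶ R) (hs : ρ ≫ s = q ≫ aW) (m : W ⟶ M),
      Etale aW.left ∧ Surjective aW.left ∧ ρ ≫ t = σ ≫ aW ∧
      IsOpenImmersion (pullback.lift ρ q hs).left ∧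
      (IsFinite m.left ∧ Flat m.left ∧ LocallyOfFinitePresentation m.left) ∧ Surjective m.left ∧
      IsPullback σ.left q.left m.left m.left := by
  obtain ⟨e, het, he⟩ := exists_unit h
  obtain ⟨W, aW, Q, hWe, hWs, hWsur, huniv⟩ := exists_universal he
  let P : Over S := Over.mk (Q.Z.ι ≫ (pullback s aW).hom)
  let j : P ⟶ pullback s aW := Over.homMk Q.Z.ι rfl
  haveI : IsOpenImmersion j.left := inferInstanceAs (IsOpenImmersion Q.Z.ι)
  haveI : Mono j := Over.mono_of_mono_left _
  let q : P ⟶ W := j ≫ pullback.snd s aW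
  let ρ : P ⟶ R := j ≫ pullback.fst s aW
  have hs : ρ ≫ s = q ≫ aW := by simp only [ρ, q, Category.assoc, pullback.condition]
  let z : P ⟶ pullback s (q ≫ aW) := pullback.lift ρ (𝟙 P) (by rw [hs, Category.id_comp])
  have hz : z ≫ pullback.snd s (q ≫ aW) = 𝟙 P := pullback.lift_snd _ _ _
  have hzf : z ≫ pullback.fst s (q ≫ aW) = ρ := pullback.lift_fst _ _ _
  have hzj : z ≫ bc s q rfl = j := pullback.hom_ext (by rw [Category.assoc, bc_fst, hzf])
    (by rw [Category.assoc, bc_snd, reassoc_of% hz])
  obtain ⟨Q', hQ'⟩ := exists_translate h (a' := ρ ≫ t) (Q.pull q rfl) het z hz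
    (by rw [reassoc_of% hzf]) fun x => by
      rw [Piece.mem_pull, ← Scheme.Hom.comp_apply, ← Over.comp_left, hzj]
      exact x.2
  obtain ⟨σ, ⟨hσa, hσ⟩, -⟩ := huniv P (ρ ≫ t) Q'
  subst hσ
  -- the relation
  have key : ∀ (T : Over S) (a b : T ⟶ W), (∃ y : T ⟶ P, y ≫ σ = a ∧ y ≫ q = b) ↔
      Equivalent t (Q.pull b rfl) (Q.pull a rfl) := by
    intro T a b
    constructor
    · rintro ⟨y, rfl, rfl⟩
      have := equivalent_pull h hQ' y (b := (y ≫ q) ≫ aW) (b' := (y ≫ σ) ≫ aW)
        (Category.assoc _ _ _).symm ((congrArg (y ≫ ·) hσa.symm).trans (Category.assoc _ _ _).symm)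
      rwa [Piece.pull_pull, Piece.pull_pull] at this
    · intro hab
      obtain ⟨w, hw1, hw2, hw3⟩ := exists_arrow het hab
      have hr : Set.range (w ≫ bc s b rfl).left ⊆ Set.range j.left := by
        rintro _ ⟨x, rfl⟩
        exact Q.Z.range_ι.symm.subset (hw3 x)
      let y : T ⟶ P := Over.homMk (IsOpenImmersion.lift j.left (w ≫ bc s b rfl).left hr) (by
        rw [← Over.w j, IsOpenImmersion.lift_fac_assoc, Over.w])
      have hy : y ≫ j = w ≫ bc s b rfl := Over.OverMorphism.ext (IsOpenImmersion.lift_fac _ _ _)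
      have hyq : y ≫ q = b := by
        rw [← Category.assoc, hy, Category.assoc, bc_snd, reassoc_of% hw1]
      refine ⟨y, ?_, hyq⟩
      have hyt : (y ≫ σ) ≫ aW = a ≫ aW := by
        rw [Category.assoc, hσa, ← hw2, show y ≫ ρ ≫ t = (y ≫ j) ≫ pullback.fst s aW ≫ t by
          simp only [ρ, Category.assoc], hy, Category.assoc, bc_fst_assoc]
      have h1 : Equivalent t (Q.pull b rfl) (Q.pull (y ≫ σ) hyt) := by
        have := equivalent_pull h hQ' y (b := b ≫ aW) (b' := a ≫ aW)
          ((Category.assoc _ _ _).symm.trans (congrArg (· ≫ aW) hyq))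
          ((congrArg (y ≫ ·) hσa.symm).trans ((Category.assoc _ _ _).symm.trans hyt))
        rw [Piece.pull_pull, Piece.pull_pull, Q.pull_congr hyq] at this
        exact this
      have heq := eq_of_equivalent h
        (equivalent_trans (equivalent_symm h het h1) hab)
      exact (huniv T (a ≫ aW) (Q.pull a rfl)).unique ⟨hyt, heq⟩ ⟨rfl, rfl⟩
  have hP : IsEqvRel q σ := by
    refine ⟨fun T y y' h1 h2 => (cancel_mono j).1 (ext_target h ?_ ?_), fun T => ?_⟩
    · have h1' := congrArg (· ≫ aW) h1
      simpa only [Category.assoc, hσa, ρ] using h1'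
    · simpa only [Category.assoc, q] using h2
    · refine ⟨fun a => (key T a a).2 (equivalent_refl _), fun {a b} hab => ?_,
        fun {a b c} hab hbc => ?_⟩
      · exact (key T _ _).2 (equivalent_symm h het ((key T _ _).1 hab))
      · exact (key T _ _).2 (equivalent_trans ((key T _ _).1 hbc) ((key T _ _).1 hab))
  haveI : Flat (pullback.snd s aW).left :=
    MorphismProperty.of_isPullback ((IsPullback.of_hasPullback s aW).map (Over.forget S))
      ‹Flat s.left›
  haveI : LocallyOfFinitePresentation (pullback.snd s aW).left :=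
    MorphismProperty.of_isPullback ((IsPullback.of_hasPullback s aW).map (Over.forget S))
      ‹LocallyOfFinitePresentation s.left›
  haveI : IsFinite q.left := Q.fin
  haveI : Flat q.left := inferInstanceAs (Flat (j.left ≫ (pullback.snd s aW).left))
  haveI : LocallyOfFinitePresentation q.left :=
    inferInstanceAs (LocallyOfFinitePresentation (j.left ≫ (pullback.snd s aW).left))
  obtain ⟨i, -, hiq, hii⟩ := exists_inverse hP
  haveI : IsIso i.left := ⟨i.left, by rw [← Over.comp_left, hii]; rfl,
    by rw [← Over.comp_left, hii]; rfl⟩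
  have hσq : σ.left = i.left ≫ q.left := by rw [← Over.comp_left, hiq]
  haveI : IsFinite σ.left := hσq ▸ inferInstance
  haveI : Flat σ.left := hσq ▸ inferInstance
  haveI : LocallyOfFinitePresentation σ.left := hσq ▸ inferInstance
  haveI := hWe
  haveI := hWs
  haveI : LocallyQuasiFinite aW.left := SourceDescent.Scheme.locallyQuasiFinite_of_etale aW.left
  obtain ⟨M, m, hm, hms, sq⟩ := GrpdQuot.exists_scheme_quotient_of_eqvRel hP fun u => by
    obtain ⟨V, hV, hVu⟩ := exists_affineOpen_of_finite aW.left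
      (σ.left '' (q.left ⁻¹' {u})) ((q.left.finite_preimage_singleton u).image _)
    exact ⟨V, hV, fun r hr => hVu ⟨r, hr, rfl⟩⟩
  refine ⟨W, P, M, aW, σ, q, ρ, hs, m, hWe, hWsur, hσa.symm, ?_, hm, hms, sq⟩
  have : pullback.lift ρ q hs = j := pullback.hom_ext (pullback.lift_fst _ _ _) (pullback.lift_snd _ _ _)
  rw [this]
  infer_instance

end Groth.Agent.Lib.Bootstrap.QFin
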