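import Groth.Agent.Lib.Bootstrap.QFin.Grpd
import Groth.Agent.Lib.SmoothDesc.Scheme
import Groth.Agent.Lib.SourceDescent.Ring

/-!
# Bootstrapping: flat quasi-finite separated relations on affine schemes
-/

set_option autoImplicit false
set_option linter.style.haveILetI false

universe u

open CategoryTheory CategoryTheory.Limits AlgebraicGeometry Opposite

namespace Groth.Agent.Lib.Bootstrap.QFin

open Groth.Agent.Lib.AlgSpace
open AlgSp (Sp yon IsEqvRel RepWith Representable IsAlgSpace)

theorem flat_of_flat_comp {X Y Z : Scheme.{u}} (p : X ⟶ Y) (f : Y ⟶ Z) [Flat p] [Surjective p]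
    [Flat (p ≫ f)] : Flat f := by
  refine Flat.of_stalkMap _ fun y => ?_
  obtain ⟨x, rfl⟩ := p.surjective y
  have h := Flat.stalkMap (p ≫ f) x
  rw [Scheme.Hom.stalkMap_comp] at h
  replace h : ((p.stalkMap x).hom.comp (f.stalkMap (p x)).hom).Flat := h
  algebraize [(f.stalkMap (p x)).hom, (p.stalkMap x).hom,
    (p.stalkMap x).hom.comp (f.stalkMap (p x)).hom]
  haveI : Module.FaithfullyFlat (Y.presheaf.stalk (p x)) (X.presheaf.stalk x) :=
    @Module.FaithfullyFlat.of_flat_of_isLocalHom _ _ _ _ _ _ _ (Flat.stalkMap p x)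
      (p.toLRSHom.prop x)
  haveI : Module.Flat (Z.presheaf.stalk (f (p x))) (X.presheaf.stalk x) := h
  exact Groth.Agent.Lib.SourceDescent.Ring.flat_of_comp _ _ (X.presheaf.stalk x)

variable {S : Scheme.{u}} {R U : Over S} {s t : R ⟶ U}

theorem representable_diag_quot_of_lft (h : IsEqvRel s t) [LocallyOfFiniteType s.left] :
    Representable (Limits.diag (QuotSh.quot Scheme.fppfPrecoverage s t)) := by
  haveI := isLocallySurjective_quotMap s t
  haveI := isLocallySurjective_yonProdMap (quotMap s t) (quotMap s t)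
  refine representable_of_mono_of_lft (yonProdMap (quotMap s t) (quotMap s t))
    (isPullback_diag_yonProd (isPullback_quot h)) ((AlgSp.repWith_yon_map_iff _ _).2 ?_)
  have : LocallyOfFiniteType ((prod.lift t s).left ≫ (Limits.prod.snd : U ⨯ U ⟶ U).left) := by
    rw [← Over.comp_left, prod.lift_snd]
    infer_instance
  exact locallyOfFiniteType_of_comp (prod.lift t s).left (Limits.prod.snd : U ⨯ U ⟶ U).left

/-- The quotient of an affine scheme by a flat, quasi-finite, separated relation is an algebraic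
space. -/
theorem isAlgSpace_quot_affine (h : IsEqvRel s t) [IsAffine U.left] [IsSeparated s.left]
    [LocallyQuasiFinite s.left] [Flat s.left] [LocallyOfFinitePresentation s.left] :
    IsAlgSpace (QuotSh.quot Scheme.fppfPrecoverage s t) := by
  obtain ⟨W, P, M, aW, σ, q, ρ, hs, m, hWe, hWsur, ht, hj, ⟨hmf, hmfl, hmfp⟩, hms, sqm⟩ :=
    exists_finite_relation h
  haveI := hWe; haveI := hWsur; haveI := hmf; haveI := hmfl; haveI := hmfp; haveI := hms
  have hdiag := representable_diag_quot_of_lft h
  let π := quotMap s t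
  haveI : Sheaf.IsLocallySurjective π := isLocallySurjective_quotMap s t
  have sqπ : IsPullback ((yon S).map t) ((yon S).map s) π π := isPullback_quot h
  have sqP := GrpdQuot.isPullback_yon_of_left sqm
  haveI := isLocallySurjective_yon_map m (fppfCover_mk m.left)
  haveI := isLocallySurjective_yon_map aW (fppfCover_of_etale aW.left)
  obtain ⟨φ, hφ⟩ := exists_desc ((yon S).map m) sqP ((yon S).map aW ≫ π) (by
    rw [← Functor.map_comp_assoc, ← Functor.map_comp_assoc, ← ht, ← hs, Functor.map_comp,
      Functor.map_comp, Category.assoc, Category.assoc, sqπ.w])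
  haveI : Sheaf.IsLocallySurjective φ := isLocallySurjective_of_lift φ fun T b => by
    obtain ⟨T₁, p₁, x, hp₁, hx⟩ := exists_lift_of_isLocallySurjective π b
    obtain ⟨T₂, p₂, y, hp₂, hy⟩ := exists_lift_of_isLocallySurjective ((yon S).map aW) x
    refine ⟨T₂, p₂ ≫ p₁, y ≫ (yon S).map m, MorphismProperty.comp_mem fppfCover _ _ hp₂ hp₁, ?_⟩
    rw [Category.assoc, hφ, reassoc_of% hy, hx, Functor.map_comp_assoc]
  obtain ⟨Rb, p₁, p₂, sqφ⟩ := exists_isPullback_yon hdiag φ φ
  -- `W ×_F W`
  let b₁ := pullback.fst p₂ m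
  let b₂ := pullback.snd p₂ m
  let r₂ := pullback.fst (b₁ ≫ p₁) m ≫ b₂
  let r₁ := pullback.snd (b₁ ≫ p₁) m
  let mm := pullback.fst (b₁ ≫ p₁) m ≫ b₁
  have hmm₁ : mm ≫ p₁ = r₁ ≫ m := by
    simp only [mm, r₁, Category.assoc]; exact pullback.condition
  have hmm₂ : mm ≫ p₂ = r₂ ≫ m := by
    simp only [mm, r₂, b₁, b₂, Category.assoc, pullback.condition]
  have sq1 : IsPullback ((yon S).map (b₁ ≫ p₁)) ((yon S).map b₂) φ ((yon S).map aW ≫ π) := by
    rw [← hφ, Functor.map_comp]
    exact (((IsPullback.of_hasPullback p₂ m).map (yon S)).flip.paste_vert sqφ.flip).flip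
  have sqk : IsPullback ((yon S).map r₁) ((yon S).map r₂) ((yon S).map aW ≫ π)
      ((yon S).map aW ≫ π) := by
    rw [Functor.map_comp]
    nth_rw 1 [← hφ]
    exact ((IsPullback.of_hasPullback (b₁ ≫ p₁) m).map (yon S)).flip.paste_vert sq1
  have sqA : IsPullback ((yon S).map (pullback.fst s aW ≫ t)) ((yon S).map (pullback.snd s aW)) π
      ((yon S).map aW ≫ π) := by
    rw [Functor.map_comp]
    exact ((IsPullback.of_hasPullback s aW).map (yon S)).paste_horiz sqπ
  obtain ⟨g, hg⟩ := (yon S).map_surjective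
    (sqA.lift ((yon S).map (r₁ ≫ aW)) ((yon S).map r₂) (by
      rw [Functor.map_comp, Category.assoc]; exact sqk.w))
  have hg₁ : g ≫ pullback.fst s aW ≫ t = r₁ ≫ aW :=
    (yon S).map_injective (by rw [Functor.map_comp, hg, sqA.lift_fst])
  have hg₂ : g ≫ pullback.snd s aW = r₂ :=
    (yon S).map_injective (by rw [Functor.map_comp, hg, sqA.lift_snd])
  have sqg : IsPullback r₁ g aW (pullback.fst s aW ≫ t) :=
    IsPullback.of_map (yon S) hg₁.symm (IsPullback.of_bot
      (by rw [← Functor.map_comp (yon S) g (pullback.snd s aW), hg₂]; exact sqk)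
      (by rw [← Functor.map_comp, ← Functor.map_comp, hg₁]) sqA)
  haveI : Etale g.left := MorphismProperty.of_isPullback (sqg.map (Over.forget S)) hWe
  obtain ⟨ē, hē⟩ := (yon S).map_surjective (sqk.lift ((yon S).map σ) ((yon S).map q) (by
    rw [← Functor.map_comp_assoc, ← Functor.map_comp_assoc, ← ht, ← hs, Functor.map_comp,
      Functor.map_comp, Category.assoc, Category.assoc, sqπ.w]))
  have hē₁ : ē ≫ r₁ = σ := (yon S).map_injective (by rw [Functor.map_comp, hē, sqk.lift_fst])
  have hē₂ : ē ≫ r₂ = q := (yon S).map_injective (by rw [Functor.map_comp, hē, sqk.lift_snd])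
  have hēg : ē ≫ g = pullback.lift ρ q hs := by
    refine (yon S).map_injective (sqA.hom_ext ?_ ?_) <;> rw [← Functor.map_comp, ← Functor.map_comp]
    · rw [Category.assoc, hg₁, reassoc_of% hē₁, ← Category.assoc, pullback.lift_fst, ht]
    · rw [Category.assoc, hg₂, hē₂, pullback.lift_snd]
  have hēo : IsOpenImmersion ē.left := by
    have hω : IsOpenImmersion (ē.left ≫ g.left) := by rw [← Over.comp_left, hēg]; exact hj
    have h1 : IsOpenImmersion (pullback.lift (f := ē.left ≫ g.left) (g := g.left) (𝟙 P.left) ē.left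
        (by simp)) :=
      MorphismProperty.of_isPullback (P := @IsOpenImmersion)
        (pullback_lift_diagonal_isPullback ē.left g.left) inferInstance
    have h2 : IsOpenImmersion (pullback.snd (ē.left ≫ g.left) g.left) :=
      MorphismProperty.pullback_snd _ _ hω
    have h3 : pullback.lift (f := ē.left ≫ g.left) (g := g.left) (𝟙 P.left) ē.left (by simp) ≫
        pullback.snd (ē.left ≫ g.left) g.left = ē.left := pullback.lift_snd _ _ _
    rw [← h3]
    exact IsOpenImmersion.comp _ _
  haveI : Mono ē := Over.mono_of_mono_left _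
  obtain ⟨Δ, hΔ⟩ := (yon S).map_surjective (sqφ.lift (𝟙 _) (𝟙 _) rfl)
  have hΔ₁ : Δ ≫ p₁ = 𝟙 M :=
    (yon S).map_injective (by rw [Functor.map_comp, hΔ, sqφ.lift_fst, (yon S).map_id])
  have hΔ₂ : Δ ≫ p₂ = 𝟙 M :=
    (yon S).map_injective (by rw [Functor.map_comp, hΔ, sqφ.lift_snd, (yon S).map_id])
  have hσm : σ ≫ m = q ≫ m := Over.OverMorphism.ext sqm.w
  have sqm' : IsPullback σ q m m := IsPullback.of_map (Over.forget S) hσm sqm
  have hRb : ∀ {T : Over S} {x y : T ⟶ Rb}, x ≫ p₁ = y ≫ p₁ → x ≫ p₂ = y ≫ p₂ → x = y :=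
    fun h1 h2 => (yon S).map_injective (sqφ.hom_ext (by rw [← Functor.map_comp, ← Functor.map_comp, h1])
      (by rw [← Functor.map_comp, ← Functor.map_comp, h2]))
  have hX : ∀ {T : Over S} {x y : T ⟶ pullback (b₁ ≫ p₁) m}, x ≫ r₁ = y ≫ r₁ → x ≫ r₂ = y ≫ r₂ →
      x = y :=
    fun h1 h2 => (yon S).map_injective (sqk.hom_ext (by rw [← Functor.map_comp, ← Functor.map_comp, h1])
      (by rw [← Functor.map_comp, ← Functor.map_comp, h2]))
  have sqΔ : IsPullback (q ≫ m) ē Δ mm := by
    refine IsPullback.mk' ?_ (fun T a b _ hab => (cancel_mono ē).1 hab) fun T a b hab => ?_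
    · refine hRb ?_ ?_
      · simp only [Category.assoc, hΔ₁, Category.comp_id, hmm₁, reassoc_of% hē₁, hσm]
      · simp only [Category.assoc, hΔ₂, Category.comp_id, hmm₂, reassoc_of% hē₂]
    · have ha1 : a = b ≫ r₁ ≫ m := by
        simpa only [Category.assoc, hΔ₁, Category.comp_id, hmm₁] using congr($hab ≫ p₁)
      have ha2 : a = b ≫ r₂ ≫ m := by
        simpa only [Category.assoc, hΔ₂, Category.comp_id, hmm₂] using congr($hab ≫ p₂)
      refine ⟨sqm'.lift (b ≫ r₁) (b ≫ r₂) (by rw [Category.assoc, Category.assoc, ← ha1, ← ha2]), ?_,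
        hX (by rw [Category.assoc, hē₁, sqm'.lift_fst]) (by rw [Category.assoc, hē₂, sqm'.lift_snd])⟩
      rw [← Category.assoc, sqm'.lift_snd, Category.assoc, ← ha2]
  have hb₁ : IsPullback b₁.left b₂.left p₂.left m.left :=
    (IsPullback.of_hasPullback p₂ m).map (Over.forget S)
  have hpf : IsPullback (pullback.fst (b₁ ≫ p₁) m).left r₁.left (b₁ ≫ p₁).left m.left :=
    (IsPullback.of_hasPullback (b₁ ≫ p₁) m).map (Over.forget S)
  haveI : IsFinite b₁.left := MorphismProperty.of_isPullback hb₁.flip hmf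
  haveI : Flat b₁.left := MorphismProperty.of_isPullback hb₁.flip hmfl
  haveI : LocallyOfFinitePresentation b₁.left := MorphismProperty.of_isPullback hb₁.flip hmfp
  haveI : Surjective b₁.left := MorphismProperty.of_isPullback hb₁.flip hms
  haveI : IsFinite (pullback.fst (b₁ ≫ p₁) m).left := MorphismProperty.of_isPullback hpf.flip hmf
  haveI : Flat (pullback.fst (b₁ ≫ p₁) m).left := MorphismProperty.of_isPullback hpf.flip hmfl
  haveI : LocallyOfFinitePresentation (pullback.fst (b₁ ≫ p₁) m).left :=
    MorphismProperty.of_isPullback hpf.flip hmfp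
  haveI : Surjective (pullback.fst (b₁ ≫ p₁) m).left := MorphismProperty.of_isPullback hpf.flip hms
  haveI : IsFinite mm.left := inferInstanceAs (IsFinite ((pullback.fst (b₁ ≫ p₁) m).left ≫ b₁.left))
  haveI : Flat mm.left := inferInstanceAs (Flat ((pullback.fst (b₁ ≫ p₁) m).left ≫ b₁.left))
  haveI : LocallyOfFinitePresentation mm.left :=
    inferInstanceAs (LocallyOfFinitePresentation ((pullback.fst (b₁ ≫ p₁) m).left ≫ b₁.left))
  haveI : Surjective mm.left :=
    inferInstanceAs (Surjective ((pullback.fst (b₁ ≫ p₁) m).left ≫ b₁.left))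
  -- `φ` is etale
  haveI : MorphismProperty.IsLocalAtTarget @IsOpenImmersion.{u} Scheme.fppfPrecoverage :=
    isLocalAtTarget_fppf_isOpenImmersion
  have hΔo : IsOpenImmersion Δ.left := by
    refine of_fppfCover @IsOpenImmersion (fppfCover_mk mm.left) ?_
    have sq : IsPullback (q ≫ m).left ē.left Δ.left mm.left := sqΔ.map (Over.forget S)
    rw [← MorphismProperty.cancel_left_of_respectsIso @IsOpenImmersion sq.isoPullback.hom,
      sq.isoPullback_hom_snd]
    exact hēo
  haveI : FormallyUnramified p₂.left := by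
    have hd : RepWith @IsOpenImmersion (pullback.diagonal φ) := by
      have : pullback.diagonal φ = (yon S).map Δ ≫ sqφ.isoPullback.hom := by
        refine pullback.hom_ext ?_ ?_
        · rw [pullback.diagonal_fst, Category.assoc, sqφ.isoPullback_hom_fst, ← Functor.map_comp,
            hΔ₁, (yon S).map_id]
        · rw [pullback.diagonal_snd, Category.assoc, sqφ.isoPullback_hom_snd, ← Functor.map_comp,
            hΔ₂, (yon S).map_id]
      rw [this]
      exact MorphismProperty.RespectsIso.postcomp _ _ _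
        ((AlgSp.repWith_yon_map_iff _ Δ).2 hΔo)
    haveI : IsOpenImmersion (pullback.diagonal p₂.left) :=
      (AlgSp.repWith_diagonal_yon_map_iff _ p₂).1
        (Lib.AlgSpMor.Sep.repWith_diagonal_baseChange sqφ hd)
    infer_instance
  haveI : Flat (pullback.snd s aW).left :=
    MorphismProperty.of_isPullback ((IsPullback.of_hasPullback s aW).map (Over.forget S))
      ‹Flat s.left›
  haveI : LocallyOfFinitePresentation (pullback.snd s aW).left :=
    MorphismProperty.of_isPullback ((IsPullback.of_hasPullback s aW).map (Over.forget S))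
      ‹LocallyOfFinitePresentation s.left›
  have hmp : mm.left ≫ p₂.left = g.left ≫ (pullback.snd s aW).left ≫ m.left := by
    rw [← Over.comp_left, hmm₂, ← hg₂]
    simp only [Over.comp_left, Category.assoc]
  haveI : Flat (mm.left ≫ p₂.left) := by rw [hmp]; infer_instance
  haveI : LocallyOfFinitePresentation (mm.left ≫ p₂.left) := by rw [hmp]; infer_instance
  haveI : Flat p₂.left := flat_of_flat_comp mm.left p₂.left
  haveI : LocallyOfFinitePresentation p₂.left :=
    SmoothDesc.Scheme.locallyOfFinitePresentation_of_comp mm.left p₂.left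
  haveI : Etale p₂.left := Etale.of_formallyUnramified_of_flat p₂.left
  haveI : Surjective p₂.left := ⟨fun x => ⟨Δ.left x, by
    rw [← Scheme.Hom.comp_apply, ← Over.comp_left, hΔ₂]; rfl⟩⟩
  haveI : MorphismProperty.IsLocalAtTarget @Etale.{u} Scheme.fppfPrecoverage :=
    isLocalAtTarget_fppf_etale
  haveI : MorphismProperty.IsLocalAtTarget @Surjective.{u} Scheme.fppfPrecoverage :=
    isLocalAtTarget_fppf_surjective
  have hrep := representable_from_yon hdiag φ
  exact ⟨hdiag, M, φ,
    repWith_of_isLocallySurjective hrep φ sqφ @Etale (repWith_etale_yon_map inferInstance),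
    repWith_of_isLocallySurjective hrep φ sqφ @Surjective (repWith_surjective_yon_map inferInstance)⟩

end Groth.Agent.Lib.Bootstrap.QFin
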