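import Groth.Agent.Lib.Bootstrap.QFin.Chart

/-!
# Every piece is etale locally the pullback of a chart
-/

set_option autoImplicit false
set_option linter.style.haveILetI false

universe u

open CategoryTheory CategoryTheory.Limits AlgebraicGeometry Opposite

namespace Groth.Agent.Lib.Bootstrap.QFin

open Groth.Agent.Lib.AlgSpace
open Groth.Agent.H54.GeomLift (pt Lift pt_comp)
open Groth.Agent.H54

/-- Geometric lifts do not grow when the algebraically closed field grows. -/
theorem exists_lift_descend {X Y : Scheme.{u}} (f : X ⟶ Y) [LocallyQuasiFinite f] {K Ω : Type u}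
    [Field K] [IsAlgClosed K] [Field Ω] [IsAlgClosed Ω] (ξ : Spec (CommRingCat.of K) ⟶ Y)
    (j : Spec (CommRingCat.of Ω) ⟶ Spec (CommRingCat.of K)) (q : Spec (CommRingCat.of Ω) ⟶ X)
    (hq : q ≫ f = j ≫ ξ) : ∃ l : Lift f ξ, q = j ≫ l.1 := by
  obtain ⟨φ, rfl⟩ := Spec.map_surjective j
  let x := pt q
  have hj : ∀ g : Spec (CommRingCat.of K) ⟶ X, pt (Spec.map φ ≫ g) = pt g := fun g =>
    congrArg g (Subsingleton.elim _ _)
  have hj' : pt (Spec.map φ ≫ ξ) = pt ξ := congrArg ξ (Subsingleton.elim _ _)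
  have hx : f x = pt ξ := by rw [← hj', ← hq]; rfl
  obtain ⟨hfK, -, hcK⟩ := GeomLift.card_pt_eq f ξ x hx
  obtain ⟨hfΩ, -, hcΩ⟩ := GeomLift.card_pt_eq f (Spec.map φ ≫ ξ) x (hx.trans hj'.symm)
  haveI := hfK; haveI := hfΩ
  let F : {l : Lift f ξ // pt l.1 = x} → {l : Lift f (Spec.map φ ≫ ξ) // pt l.1 = x} := fun l =>
    ⟨⟨Spec.map φ ≫ l.1.1, by rw [Category.assoc, l.1.2]⟩, (hj _).trans l.2⟩
  have hF : Function.Injective F := by
    rintro ⟨⟨l, hl⟩, hlx⟩ ⟨⟨l', hl'⟩, hlx'⟩ h
    have h0 : Spec.map φ ≫ l = Spec.map φ ≫ l' := congrArg (fun a => a.1.1) h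
    obtain ⟨d, hd⟩ : ∃ d : X.residueField x ⟶ CommRingCat.of K,
        l = Spec.map d ≫ X.fromSpecResidueField x := by
      have hlx0 : pt l = x := hlx
      rw [← hlx0]; exact GeomLift.exists_of_pt l
    obtain ⟨d', hd'⟩ : ∃ d : X.residueField x ⟶ CommRingCat.of K,
        l' = Spec.map d ≫ X.fromSpecResidueField x := by
      have hlx0 : pt l' = x := hlx'
      rw [← hlx0]; exact GeomLift.exists_of_pt l'
    subst hd hd'
    rw [← Spec.map_comp_assoc, ← Spec.map_comp_assoc, cancel_mono, Spec.map_inj] at h0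
    have : d = d' := CommRingCat.hom_ext (RingHom.ext fun z =>
      φ.hom.injective (congr($h0 z)))
    subst this
    rfl
  obtain ⟨l, hl⟩ := ((Nat.bijective_iff_injective_and_card F).2 ⟨hF, hcK.trans hcΩ.symm⟩).2 ⟨⟨q, hq⟩, rfl⟩
  exact ⟨l.1, (congrArg (fun a => a.1.1) hl).symm⟩

variable {S : Scheme.{u}} {R U : Over S} {s : R ⟶ U} {e : U ⟶ R} {he : e ≫ s = 𝟙 U}

/-- Every piece agrees near each point with the pullback of a chart for a suitable finite set. -/
theorem exists_point_eqLocus [IsSeparated s.left] [LocallyQuasiFinite s.left]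
    {T : Over S} {a : T ⟶ U} (P : Piece he a) (τ : T.left) {K : Type u} [Field K] [IsAlgClosed K]
    (ξ : Spec (CommRingCat.of K) ⟶ U.left) (hξ : pt ξ = a.left τ) :
    ∃ (L : Set (Lift s.left ξ)), L.Finite ∧ eLift he ξ ∈ L ∧
      ∀ (V : Over S) (b : V ⟶ U) (ξ' : Spec (CommRingCat.of K) ⟶ V.left) (Q : Piece he b),
        ξ' ≫ b.left = ξ →
        (∀ q : Spec (CommRingCat.of K) ⟶ (pullback s b).left, q ≫ (pullback.snd s b).left = ξ' →
          (pt q ∈ Q.Z ↔ ∃ l ∈ L, q ≫ (pullback.fst s b).left = l.1)) →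
        ∃ w : (pullback a b).left, (pullback.fst a b).left w = τ ∧
          w ∈ eqLocus (P.pull (pullback.fst a b) rfl)
            (Q.pull (pullback.snd a b) pullback.condition.symm) := by
  obtain ⟨z, hz, -⟩ := Scheme.Pullback.exists_preimage_pullback (f := a.left) (g := ξ) τ
    (IsLocalRing.closedPoint K) hξ.symm
  obtain ⟨Ω, _, _, ζ, hζ⟩ := GeomLift.exists_pt_eq z
  let ω : Spec (CommRingCat.of Ω) ⟶ T.left := ζ ≫ pullback.fst a.left ξ
  let j : Spec (CommRingCat.of Ω) ⟶ Spec (CommRingCat.of K) := ζ ≫ pullback.snd a.left ξ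
  have hω : ω ≫ a.left = j ≫ ξ := by simp only [ω, j, Category.assoc, pullback.condition]
  have hωτ : pt ω = τ := by rw [pt_comp, hζ, hz]
  have sqa := (IsPullback.of_hasPullback s a).map (Over.forget S)
  let qP : Lift s.left ξ → (Spec (CommRingCat.of Ω) ⟶ (pullback s a).left) := fun l =>
    sqa.lift (j ≫ l.1) ω ((Category.assoc _ _ _).trans ((congrArg (j ≫ ·) l.2).trans hω.symm))
  have hqf : ∀ l, qP l ≫ (pullback.fst s a).left = j ≫ l.1 := fun l => sqa.lift_fst _ _ _
  have hqs : ∀ l, qP l ≫ (pullback.snd s a).left = ω := fun l => sqa.lift_snd _ _ _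
  have hext : ∀ {A : Scheme.{u}} (x y : A ⟶ (pullback s a).left),
      x ≫ (pullback.fst s a).left = y ≫ (pullback.fst s a).left →
      x ≫ (pullback.snd s a).left = y ≫ (pullback.snd s a).left → x = y :=
    fun _ _ h1 h2 => sqa.hom_ext h1 h2
  have hepi : ∀ (X : Scheme.{u}) (l l' : Spec (CommRingCat.of K) ⟶ X),
      j ≫ l = j ≫ l' → l = l' := fun X l l' h0 => by
    obtain ⟨φ, hφ⟩ := Spec.map_surjective j
    have hpt : pt l = pt l' := by
      have := congrArg pt h0
      simp only [pt_comp] at this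
      have e1 : ∀ g : Spec (CommRingCat.of K) ⟶ X, g (pt j) = pt g := fun g =>
        congrArg g (Subsingleton.elim _ _)
      rwa [e1, e1] at this
    obtain ⟨d, hd⟩ := GeomLift.exists_of_pt l
    obtain ⟨d', hd'⟩ : ∃ d : X.residueField (pt l) ⟶ CommRingCat.of K,
        l' = Spec.map d ≫ X.fromSpecResidueField (pt l) := by
      rw [hpt]; exact GeomLift.exists_of_pt l'
    rw [hd, hd', ← hφ, ← Spec.map_comp_assoc, ← Spec.map_comp_assoc, cancel_mono, Spec.map_inj] at h0
    have : d = d' := CommRingCat.hom_ext (RingHom.ext fun z => φ.hom.injective (congr($h0 z)))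
    rw [hd, hd', this]
  let L : Set (Lift s.left ξ) := {l | pt (qP l) ∈ P.Z}
  have hfin : L.Finite := by
    have := P.fin
    haveI : Finite (Lift (P.Z.ι ≫ (pullback.snd s a).left) ω) :=
      GeomLift.finite_lift _ _ (Scheme.Hom.finite_preimage_singleton _ _)
    have hr : ∀ l : L, Set.range (qP l.1) ⊆ Set.range P.Z.ι := fun l =>
      Weighting.range_subset_of_pt_mem _ _ (by rw [Scheme.Opens.range_ι]; exact l.2)
    let F : L → Lift (P.Z.ι ≫ (pullback.snd s a).left) ω := fun l =>
      ⟨IsOpenImmersion.lift P.Z.ι (qP l.1) (hr l), by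
        rw [IsOpenImmersion.lift_fac_assoc, hqs]⟩
    have : Finite L := Finite.of_injective F fun l l' h => by
      have h0 : qP l.1 = qP l'.1 := by
        rw [← IsOpenImmersion.lift_fac P.Z.ι (qP l.1) (hr l),
          ← IsOpenImmersion.lift_fac P.Z.ι (qP l'.1) (hr l')]
        exact congrArg (fun x => x.1 ≫ P.Z.ι) h
      refine Subtype.ext (Subtype.ext (hepi _ _ _ ?_))
      rw [← hqf, ← hqf, h0]
    exact Set.toFinite L
  refine ⟨L, hfin, ?_, fun V b ξ' Q hξ' hQ => ?_⟩
  · have : qP (eLift he ξ) = ω ≫ (eT he a).left := by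
      refine hext _ _ ?_ ?_
      · rw [hqf, Category.assoc]
        refine Eq.trans ?_ (congrArg (ω ≫ ·) (congrArg (·.left) (eT_fst he a)).symm)
        refine Eq.trans ?_ (Category.assoc _ _ _)
        rw [hω]
        exact (Category.assoc ζ _ _).symm.trans (Category.assoc j ξ e.left).symm
      · rw [hqs, Category.assoc]
        exact ((congrArg (ω ≫ ·) (congrArg (·.left) (eT_snd he a))).trans (Category.comp_id ω)).symm
    change pt (qP (eLift he ξ)) ∈ P.Z
    rw [this, pt_comp]
    exact P.mem _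
  · have sqw := (IsPullback.of_hasPullback a b).map (Over.forget S)
    have sqb := (IsPullback.of_hasPullback s b).map (Over.forget S)
    let ω' : Spec (CommRingCat.of Ω) ⟶ (pullback a b).left := sqw.lift ω (j ≫ ξ') (by
      exact hω.trans ((congrArg (j ≫ ·) hξ'.symm).trans (Category.assoc _ _ _).symm))
    have hω'f : ω' ≫ (pullback.fst a b).left = ω := sqw.lift_fst _ _ _
    have hω's : ω' ≫ (pullback.snd a b).left = j ≫ ξ' := sqw.lift_snd _ _ _
    refine ⟨pt ω', by rw [← pt_comp, hω'f, hωτ], (mem_eqLocus _ _ _).2 fun y hy => ?_⟩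
    haveI : LocallyQuasiFinite (pullback.snd s (pullback.fst a b ≫ a)).left :=
      MorphismProperty.of_isPullback
        ((IsPullback.of_hasPullback s (pullback.fst a b ≫ a)).map (Over.forget S))
        ‹LocallyQuasiFinite s.left›
    obtain ⟨q, rfl⟩ := GeomLift.exists_lift (pullback.snd s (pullback.fst a b ≫ a)).left ω' y hy
    obtain ⟨l, hl⟩ := exists_lift_descend s.left ξ j
      (q.1 ≫ (pullback.fst s (pullback.fst a b ≫ a)).left) (by
        have hc := congrArg (fun x => q.1 ≫ x.left)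
          (pullback.condition (f := s) (g := pullback.fst a b ≫ a))
        simp only [Over.comp_left, ← Category.assoc, q.2] at hc
        simp only [hω'f, hω] at hc
        simpa [Category.assoc] using hc)
    let qK : Spec (CommRingCat.of K) ⟶ (pullback s b).left := sqb.lift l.1 ξ' (l.2.trans hξ'.symm)
    have hKf : qK ≫ (pullback.fst s b).left = l.1 := sqb.lift_fst _ _ _
    have hKs : qK ≫ (pullback.snd s b).left = ξ' := sqb.lift_snd _ _ _
    have h1 : q.1 ≫ (bc s (pullback.fst a b) (rfl : _ = pullback.fst a b ≫ a)).left = qP l := by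
      refine hext _ _ ?_ ?_
      · rw [Category.assoc, ← Over.comp_left, bc_fst, hl, hqf]
      · rw [Category.assoc, ← Over.comp_left, bc_snd, Over.comp_left, ← Category.assoc, q.2, hω'f, hqs]
    have h2 : q.1 ≫ (bc s (pullback.snd a b) (pullback.condition (f := a) (g := b)).symm).left =
        j ≫ qK := by
      refine sqb.hom_ext ?_ ?_
      · refine (Category.assoc _ _ _).trans (Eq.trans ?_ (Category.assoc _ _ _).symm)
        exact ((congrArg (fun x => q.1 ≫ x) (congrArg (·.left) (bc_fst _ _))).trans hl).trans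
          (congrArg (j ≫ ·) hKf.symm)
      · refine (Category.assoc _ _ _).trans (Eq.trans ?_ (Category.assoc _ _ _).symm)
        refine ((congrArg (fun x => q.1 ≫ x) (congrArg (·.left) (bc_snd _ _))).trans ?_).trans
          (congrArg (j ≫ ·) hKs.symm)
        simp only [Over.comp_left, ← Category.assoc, q.2, hω's]
    rw [Piece.mem_pull, Piece.mem_pull, ← pt_comp, ← pt_comp, h1, h2,
      show pt (j ≫ qK) = pt qK from congrArg qK (Subsingleton.elim _ _), hQ qK hKs, hKf]
    exact ⟨fun h => ⟨l, h, rfl⟩, fun ⟨l', hl', hll⟩ => (Subtype.ext hll : l = l') ▸ hl'⟩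

end Groth.Agent.Lib.Bootstrap.QFin
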