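import Groth.Agent.Lib.AlgSpace.Local
import Groth.Agent.Lib.AlgSpMor.AffineDescent
import Groth.Agent.H54.EtaleSep
import Mathlib.AlgebraicGeometry.ZariskisMainTheorem
import Mathlib.AlgebraicGeometry.Morphisms.UniversallyOpen

/-!
# Finite open pieces containing the identity

For `s : R ⟶ U` separated, flat and lfp with a section `e`, a piece over `a : T ⟶ U` is an open of
`R ×_U T` which is finite over `T` and contains the section.
-/

set_option autoImplicit false
set_option linter.style.haveILetI false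

universe u

open CategoryTheory CategoryTheory.Limits AlgebraicGeometry Opposite

namespace Groth.Agent.Lib.Bootstrap.QFin

open Groth.Agent.Lib.AlgSpace

attribute [local simp] pullback.lift_fst pullback.lift_snd pullback.lift_fst_assoc pullback.lift_snd_assoc

variable {S : Scheme.{u}} {R U : Over S} {s : R ⟶ U} {e : U ⟶ R} (he : e ≫ s = 𝟙 U)

/-- The section pulled back. -/
noncomputable def eT {T : Over S} (a : T ⟶ U) : T ⟶ pullback s a :=
  pullback.lift (a ≫ e) (𝟙 T) (by rw [Category.assoc, he, Category.comp_id, Category.id_comp])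

@[simp, reassoc] theorem eT_fst {T : Over S} (a : T ⟶ U) : eT he a ≫ pullback.fst s a = a ≫ e :=
  pullback.lift_fst _ _ _

@[simp, reassoc] theorem eT_snd {T : Over S} (a : T ⟶ U) : eT he a ≫ pullback.snd s a = 𝟙 T :=
  pullback.lift_snd _ _ _

/-- A finite open piece containing the section. -/
@[ext]
structure Piece {T : Over S} (a : T ⟶ U) where
  Z : (pullback s a).left.Opens
  fin : IsFinite (Z.ι ≫ (pullback.snd s a).left)
  mem : ∀ τ : T.left, (eT he a).left τ ∈ Z

attribute [instance] Piece.fin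

section BaseChange

variable {T T' : Over S} {a : T ⟶ U} {a' : T' ⟶ U}

/-- The base change map. -/
noncomputable def bc (s : R ⟶ U) (f : T' ⟶ T) (h : f ≫ a = a') : pullback s a' ⟶ pullback s a :=
  pullback.lift (pullback.fst s a') (pullback.snd s a' ≫ f)
    (by rw [Category.assoc, h, pullback.condition])

@[simp, reassoc] theorem bc_fst (f : T' ⟶ T) (h : f ≫ a = a') :
    bc s f h ≫ pullback.fst s a = pullback.fst s a' := pullback.lift_fst _ _ _

@[simp, reassoc] theorem bc_snd (f : T' ⟶ T) (h : f ≫ a = a') :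
    bc s f h ≫ pullback.snd s a = pullback.snd s a' ≫ f := pullback.lift_snd _ _ _

theorem isPullback_bc (f : T' ⟶ T) (h : f ≫ a = a') :
    IsPullback (bc s f h) (pullback.snd s a') (pullback.snd s a) f :=
  IsPullback.of_right (by rw [bc_fst, h]; exact IsPullback.of_hasPullback s a') (bc_snd f h)
    (IsPullback.of_hasPullback s a)

theorem isPullback_bc_left (f : T' ⟶ T) (h : f ≫ a = a') :
    IsPullback (bc s f h).left (pullback.snd s a').left (pullback.snd s a).left f.left :=
  (isPullback_bc f h).map (Over.forget S)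

theorem bc_comp {T'' : Over S} {a'' : T'' ⟶ U} (g : T'' ⟶ T') (f : T' ⟶ T) (h : f ≫ a = a')
    (h' : g ≫ a' = a'') : bc s g h' ≫ bc s f h = bc s (g ≫ f) (by rw [Category.assoc, h, h']) :=
  pullback.hom_ext (by simp) (by rw [Category.assoc, bc_snd, reassoc_of% bc_snd (s := s) g h', bc_snd])

theorem eT_bc (f : T' ⟶ T) (h : f ≫ a = a') : eT he a' ≫ bc s f h = f ≫ eT he a :=
  pullback.hom_ext (by simp [reassoc_of% h]) (by
    rw [Category.assoc, bc_snd, reassoc_of% eT_snd he a', Category.assoc, eT_snd, Category.comp_id])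

theorem bc_congr {f g : T' ⟶ T} (hfg : f = g) (h : f ≫ a = a') :
    bc s f h = bc s g (hfg ▸ h) := by subst hfg; rfl

variable {he}

theorem isFinite_preimage {f : T' ⟶ T} (h : f ≫ a = a') (Z : (pullback s a).left.Opens)
    [IsFinite (Z.ι ≫ (pullback.snd s a).left)] :
    IsFinite (((bc s f h).left ⁻¹ᵁ Z).ι ≫ (pullback.snd s a').left) :=
  MorphismProperty.of_isPullback
    ((isPullback_morphismRestrict (bc s f h).left Z).paste_vert (isPullback_bc_left f h))
    ‹IsFinite (Z.ι ≫ (pullback.snd s a).left)›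

/-- Pull back a piece. -/
noncomputable def Piece.pull (P : Piece he a) (f : T' ⟶ T) (h : f ≫ a = a') : Piece he a' where
  Z := (bc s f h).left ⁻¹ᵁ P.Z
  fin := isFinite_preimage h P.Z
  mem τ := by
    change (bc s f h).left ((eT he a').left τ) ∈ P.Z
    rw [← Scheme.Hom.comp_apply, ← Over.comp_left, eT_bc, Over.comp_left, Scheme.Hom.comp_apply]
    exact P.mem _

theorem Piece.mem_pull (P : Piece he a) (f : T' ⟶ T) (h : f ≫ a = a') (y : (pullback s a').left) :
    y ∈ (P.pull f h).Z ↔ (bc s f h).left y ∈ P.Z := Iff.rfl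

theorem Piece.pull_pull (P : Piece he a) (f : T' ⟶ T) (h : f ≫ a = a') {T'' : Over S}
    {a'' : T'' ⟶ U} (g : T'' ⟶ T') (h' : g ≫ a' = a'') :
    (P.pull f h).pull g h' = P.pull (g ≫ f) (by rw [Category.assoc, h, h']) := by
  refine Piece.ext ?_
  change (bc s g h').left ⁻¹ᵁ ((bc s f h).left ⁻¹ᵁ P.Z) = _
  rw [← Scheme.Hom.comp_preimage, ← Over.comp_left, bc_comp]
  rfl

theorem Piece.pull_congr (P : Piece he a) {f g : T' ⟶ T} (hfg : f = g) (h : f ≫ a = a') :
    P.pull f h = P.pull g (hfg ▸ h) := by subst hfg; rfl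

theorem Piece.pull_id (P : Piece he a) : P.pull (𝟙 T) (Category.id_comp a) = P := by
  refine Piece.ext ?_
  change (bc s (𝟙 T) (Category.id_comp a)).left ⁻¹ᵁ P.Z = P.Z
  rw [show bc s (𝟙 T) (Category.id_comp a) = 𝟙 _ from pullback.hom_ext (by simp) (by simp)]
  rfl

end BaseChange

section Locus

variable {he} [IsSeparated s.left]

theorem isSeparated_snd {T : Over S} (a : T ⟶ U) : IsSeparated (pullback.snd s a).left :=
  MorphismProperty.of_isPullback ((IsPullback.of_hasPullback s a).map (Over.forget S))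
    ‹IsSeparated s.left›

variable {T : Over S} {a : T ⟶ U}

theorem isClosed_of_isFinite (Z : (pullback s a).left.Opens)
    [IsFinite (Z.ι ≫ (pullback.snd s a).left)] : IsClosed (Z : Set (pullback s a).left) := by
  haveI := isSeparated_snd (s := s) a
  have : IsFinite Z.ι := IsFinite.of_comp Z.ι (pullback.snd s a).left
  rw [← Z.range_ι]
  exact Z.ι.isClosedMap.isClosed_range

/-- The points of the base over which two pieces differ. -/
def bad (P Q : Piece he a) : Set T.left :=
  (pullback.snd s a).left '' ((P.Z : Set (pullback s a).left) \ Q.Z) ∪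
    (pullback.snd s a).left '' ((Q.Z : Set (pullback s a).left) \ P.Z)

theorem isClosed_image_diff (P Q : Piece he a) :
    IsClosed ((pullback.snd s a).left '' ((P.Z : Set (pullback s a).left) \ Q.Z)) := by
  have h : (pullback.snd s a).left '' ((P.Z : Set (pullback s a).left) \ Q.Z) =
      (P.Z.ι ≫ (pullback.snd s a).left) '' (P.Z.ι ⁻¹' (Q.Z : Set _)ᶜ) := by
    ext τ
    constructor
    · rintro ⟨y, ⟨hy, hy'⟩, rfl⟩
      exact ⟨⟨y, hy⟩, hy', rfl⟩
    · rintro ⟨y, hy, rfl⟩
      exact ⟨_, ⟨y.2, hy⟩, rfl⟩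
  rw [h]
  exact (P.Z.ι ≫ (pullback.snd s a).left).isClosedMap _
    (Q.Z.2.isClosed_compl.preimage P.Z.ι.continuous)

theorem isOpen_image_diff [Flat s.left] [LocallyOfFinitePresentation s.left] (P Q : Piece he a) :
    IsOpen ((pullback.snd s a).left '' ((P.Z : Set (pullback s a).left) \ Q.Z)) := by
  have sq := (IsPullback.of_hasPullback s a).map (Over.forget S)
  haveI : Flat (pullback.snd s a).left := MorphismProperty.of_isPullback sq ‹Flat s.left›
  haveI : LocallyOfFinitePresentation (pullback.snd s a).left :=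
    MorphismProperty.of_isPullback sq ‹LocallyOfFinitePresentation s.left›
  exact (pullback.snd s a).left.isOpenMap _ (P.Z.2.sdiff (isClosed_of_isFinite Q.Z))

/-- Where two pieces agree. -/
def eqLocus (P Q : Piece he a) : T.left.Opens :=
  ⟨(bad P Q)ᶜ, ((isClosed_image_diff P Q).union (isClosed_image_diff Q P)).isOpen_compl⟩

theorem isClosed_eqLocus [Flat s.left] [LocallyOfFinitePresentation s.left] (P Q : Piece he a) :
    IsClosed (eqLocus P Q : Set T.left) :=
  ((isOpen_image_diff P Q).union (isOpen_image_diff Q P)).isClosed_compl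

theorem mem_eqLocus (P Q : Piece he a) (τ : T.left) :
    τ ∈ eqLocus P Q ↔
      ∀ y : (pullback s a).left, (pullback.snd s a).left y = τ → (y ∈ P.Z ↔ y ∈ Q.Z) := by
  change τ ∈ (bad P Q)ᶜ ↔ _
  constructor
  · intro h y hy
    refine ⟨fun hP => by_contra fun hQ => h (.inl ⟨y, ⟨hP, hQ⟩, hy⟩),
      fun hQ => by_contra fun hP => h (.inr ⟨y, ⟨hQ, hP⟩, hy⟩)⟩
  · rintro h (⟨y, ⟨hP, hQ⟩, hy⟩ | ⟨y, ⟨hQ, hP⟩, hy⟩)
    · exact hQ ((h y hy).1 hP)
    · exact hP ((h y hy).2 hQ)

theorem pull_eq_pull_iff {T' : Over S} {a' : T' ⟶ U} (P Q : Piece he a) (f : T' ⟶ T)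
    (h : f ≫ a = a') : P.pull f h = Q.pull f h ↔ ∀ τ, f.left τ ∈ eqLocus P Q := by
  have sq := isPullback_bc_left (s := s) f h
  constructor
  · intro hPQ τ
    refine (mem_eqLocus P Q _).2 fun y hy => ?_
    obtain ⟨y', hy', -⟩ := Scheme.exists_preimage_of_isPullback sq y τ hy
    rw [← hy', ← P.mem_pull, ← Q.mem_pull, hPQ]
  · intro hmem
    refine Piece.ext (TopologicalSpace.Opens.ext (Set.ext fun y => ?_))
    refine ((mem_eqLocus P Q _).1 (hmem ((pullback.snd s a').left y)) _ ?_)
    rw [← Scheme.Hom.comp_apply, sq.w, Scheme.Hom.comp_apply]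

theorem eq_of_eqLocus (P Q : Piece he a) (h : ∀ τ, τ ∈ eqLocus P Q) : P = Q := by
  rw [← P.pull_id, ← Q.pull_id, pull_eq_pull_iff]
  exact fun τ => h _

end Locus

section Descent

variable {he} {T T' : Over S} {a : T ⟶ U} {a' : T' ⟶ U}

theorem pull_injective (P Q : Piece he a) (f : T' ⟶ T) [Surjective f.left] (h : f ≫ a = a')
    (hPQ : P.pull f h = Q.pull f h) : P = Q := by
  have : Surjective (bc s f h).left :=
    MorphismProperty.of_isPullback (isPullback_bc_left f h).flip ‹Surjective f.left›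
  refine Piece.ext (TopologicalSpace.Opens.ext (Set.ext fun y => ?_))
  obtain ⟨y, rfl⟩ := (bc s f h).left.surjective y
  exact Iff.of_eq congr(y ∈ ($hPQ).Z)

/-- Pieces descend along fppf covers. -/
theorem exists_descend (f : T' ⟶ T) (hf : fppfCover f.left) (h : f ≫ a = a') {T'' : Over S}
    {a'' : T'' ⟶ U} {q₁ q₂ : T'' ⟶ T'} (sq : IsPullback q₁ q₂ f f) (h₁ : q₁ ≫ a' = a'')
    (h₂ : q₂ ≫ a' = a'') (P : Piece he a') (hP : P.pull q₁ h₁ = P.pull q₂ h₂) :
    ∃ Q : Piece he a, Q.pull f h = P := by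
  haveI := hf.1.1
  haveI := hf.1.2
  haveI := hf.2
  have sqb := isPullback_bc_left (s := s) f h
  haveI : Flat (bc s f h).left := MorphismProperty.of_isPullback sqb.flip hf.1.2
  haveI : LocallyOfFinitePresentation (bc s f h).left := MorphismProperty.of_isPullback sqb.flip hf.2
  let Z : (pullback s a).left.Opens := ⟨_, (bc s f h).left.isOpenMap _ P.Z.2⟩
  have h₁₂ : IsPullback (bc s q₁ h₁) (bc s q₂ h₂) (bc s f h) (bc s f h) := by
    have outer : IsPullback (bc s q₁ h₁) (bc s q₂ h₂ ≫ pullback.snd s a')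
        (pullback.snd s a' ≫ f) f := by
      rw [bc_snd]
      exact (isPullback_bc q₁ h₁).paste_vert sq
    rw [← bc_snd (s := s) f h] at outer
    exact IsPullback.of_bot outer (by rw [bc_comp, bc_comp]; exact bc_congr sq.w _) (isPullback_bc f h)
  have hZ : (bc s f h).left ⁻¹ᵁ Z = P.Z := by
    refine le_antisymm (fun y hy => ?_) fun y hy => ⟨y, hy, rfl⟩
    obtain ⟨z, hz, hzy⟩ := hy
    obtain ⟨w, hw₁, hw₂⟩ := Scheme.exists_preimage_of_isPullback (h₁₂.map (Over.forget S)) y z hzy.symm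
    have hw : w ∈ (P.pull q₂ h₂).Z := show (bc s q₂ h₂).left w ∈ P.Z from hw₂.symm ▸ hz
    rw [← hP] at hw
    change y ∈ P.Z
    exact hw₁ ▸ hw
  have hfin : IsFinite (Z.ι ≫ (pullback.snd s a).left) := by
    have sq' := (isPullback_morphismRestrict (bc s f h).left Z).paste_vert sqb
    have hfin' : IsFinite (((bc s f h).left ⁻¹ᵁ Z).ι ≫ (pullback.snd s a').left) := by
      rw [hZ]; exact P.fin
    exact MorphismProperty.of_isPullback_of_descendsAlong (P := @IsFinite)
      (Q := @Surjective ⊓ @Flat ⊓ @LocallyOfFinitePresentation) sq'.flip hf hfin'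
  refine ⟨⟨Z, hfin, fun τ => ?_⟩, Piece.ext hZ⟩
  obtain ⟨τ, rfl⟩ := f.left.surjective τ
  refine ⟨(eT he a').left τ, P.mem τ, ?_⟩
  rw [← Scheme.Hom.comp_apply, ← Over.comp_left, eT_bc, Over.comp_left, Scheme.Hom.comp_apply]

end Descent

end Groth.Agent.Lib.Bootstrap.QFin
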