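import Groth.Agent.Lib.Bootstrap.QFin.Univ
import Groth.Agent.Lib.Bootstrap.Slice

/-!
# Translation of pieces along arrows of the relation
-/

set_option autoImplicit false
set_option linter.style.haveILetI false

universe u

open CategoryTheory CategoryTheory.Limits AlgebraicGeometry Opposite

namespace Groth.Agent.Lib.Bootstrap.QFin

open Groth.Agent.Lib.AlgSpace
open AlgSp (Sp yon IsEqvRel)

variable {S : Scheme.{u}} {R U : Over S} {s t : R ⟶ U} {e : U ⟶ R} {he : e ≫ s = 𝟙 U}

theorem ext_target (h : IsEqvRel s t) {T X : Over S} {a : T ⟶ U} {x y : X ⟶ pullback s a}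
    (h1 : x ≫ pullback.fst s a ≫ t = y ≫ pullback.fst s a ≫ t)
    (h2 : x ≫ pullback.snd s a = y ≫ pullback.snd s a) : x = y := by
  refine pullback.hom_ext (h.injective X _ _ ?_ ?_) h2
  · simpa only [Category.assoc] using h1
  · simp only [Category.assoc, pullback.condition]
    exact congrArg (· ≫ a) h2 |> fun hh => by simpa only [Category.assoc] using hh

/-- Two pieces are translates: the identification preserving targets matches them. -/
def Equivalent (t : R ⟶ U) {T : Over S} {a a' : T ⟶ U} (P : Piece he a) (P' : Piece he a') : Prop :=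
  ∃ τ : pullback s a' ⟶ pullback s a, τ ≫ pullback.snd s a = pullback.snd s a' ∧
    τ ≫ pullback.fst s a ≫ t = pullback.fst s a' ≫ t ∧ P'.Z = τ.left ⁻¹ᵁ P.Z

theorem equivalent_refl {T : Over S} {a : T ⟶ U} (P : Piece he a) : Equivalent t P P :=
  ⟨𝟙 _, Category.id_comp _, Category.id_comp _, rfl⟩

theorem equivalent_trans {T : Over S} {a a' a'' : T ⟶ U} {P : Piece he a} {P' : Piece he a'}
    {P'' : Piece he a''} (h₁ : Equivalent t P P') (h₂ : Equivalent t P' P'') :
    Equivalent t P P'' := by
  obtain ⟨τ, h1, h2, h3⟩ := h₁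
  obtain ⟨τ', h1', h2', h3'⟩ := h₂
  refine ⟨τ' ≫ τ, by rw [Category.assoc, h1, h1'], by rw [Category.assoc, h2, h2'], ?_⟩
  rw [h3', h3, ← Scheme.Hom.comp_preimage]
  rfl

theorem exists_arrow {T : Over S} {a a' : T ⟶ U} {P : Piece he a} {P' : Piece he a'}
    (het : e ≫ t = 𝟙 U) (hP : Equivalent t P P') :
    ∃ z : T ⟶ pullback s a, z ≫ pullback.snd s a = 𝟙 T ∧ z ≫ pullback.fst s a ≫ t = a' ∧
      ∀ τ, z.left τ ∈ P.Z := by
  obtain ⟨τ, h1, h2, h3⟩ := hP
  refine ⟨eT he a' ≫ τ, by rw [Category.assoc, h1, eT_snd], ?_, fun x => ?_⟩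
  · rw [Category.assoc, h2, eT_fst_assoc, het, Category.comp_id]
  · have := P'.mem x
    rw [h3] at this
    rw [Over.comp_left, Scheme.Hom.comp_apply]
    exact this

theorem equivalent_symm (h : IsEqvRel s t) (het : e ≫ t = 𝟙 U) {T : Over S} {a a' : T ⟶ U}
    {P : Piece he a} {P' : Piece he a'} (hP : Equivalent t P P') : Equivalent t P' P := by
  obtain ⟨z, hz1, hz2, -⟩ := exists_arrow het hP
  obtain ⟨τ, h1, h2, h3⟩ := hP
  obtain ⟨i, hit, his, -⟩ := exists_inverse h
  let ca := z ≫ pullback.fst s a ≫ i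
  have hca : ca ≫ s = a' := by simp only [ca, Category.assoc, his, hz2]
  have hct : ca ≫ t = a := by
    simp only [ca, Category.assoc, hit, pullback.condition]
    rw [← Category.assoc, hz1, Category.id_comp]
  obtain ⟨d, hdt, hds⟩ := exists_comp h (pullback.fst s a) (pullback.snd s a ≫ ca)
    (by rw [Category.assoc, hct, pullback.condition])
  let τ' : pullback s a ⟶ pullback s a' := pullback.lift d (pullback.snd s a)
    (by rw [hds, Category.assoc, hca])
  have h1' : τ' ≫ pullback.snd s a' = pullback.snd s a := pullback.lift_snd _ _ _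
  have h2' : τ' ≫ pullback.fst s a' ≫ t = pullback.fst s a ≫ t := by
    rw [← Category.assoc, show τ' ≫ pullback.fst s a' = d from pullback.lift_fst _ _ _, hdt]
  refine ⟨τ', h1', h2', ?_⟩
  have hid : τ' ≫ τ = 𝟙 _ := ext_target h
    (by rw [Category.assoc, h2, h2', Category.id_comp])
    (by rw [Category.assoc, h1, h1', Category.id_comp])
  rw [h3, ← Scheme.Hom.comp_preimage, ← Over.comp_left, hid]
  rfl

theorem eq_of_equivalent (h : IsEqvRel s t) {T : Over S} {a : T ⟶ U} {P P' : Piece he a}
    (hP : Equivalent t P P') : P = P' := by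
  obtain ⟨τ, h1, h2, h3⟩ := hP
  have hid : τ = 𝟙 _ := ext_target h (by rw [h2, Category.id_comp]) (by rw [h1, Category.id_comp])
  refine Piece.ext ?_
  rw [h3, hid]
  rfl

theorem equivalent_pull (h : IsEqvRel s t) {T T' : Over S} {a a' : T ⟶ U} {b b' : T' ⟶ U}
    {P : Piece he a} {P' : Piece he a'} (hP : Equivalent t P P') (f : T' ⟶ T) (hb : f ≫ a = b)
    (hb' : f ≫ a' = b') : Equivalent t (P.pull f hb) (P'.pull f hb') := by
  obtain ⟨τ, h1, h2, h3⟩ := hP
  have w : (bc s f hb' ≫ τ) ≫ pullback.snd s a = pullback.snd s b' ≫ f := by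
    rw [Category.assoc, h1, bc_snd]
  let τ' : pullback s b' ⟶ pullback s b :=
    pullback.lift (bc s f hb' ≫ τ ≫ pullback.fst s a) (pullback.snd s b') (by
      rw [← hb, Category.assoc, Category.assoc, pullback.condition, reassoc_of% h1, bc_snd_assoc])
  have h1' : τ' ≫ pullback.snd s b = pullback.snd s b' := pullback.lift_snd _ _ _
  have hτ : τ' ≫ bc s f hb = bc s f hb' ≫ τ := pullback.hom_ext
    (by rw [Category.assoc, bc_fst, pullback.lift_fst, Category.assoc])
    (by rw [Category.assoc, bc_snd, ← Category.assoc, h1', w])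
  refine ⟨τ', h1', ?_, ?_⟩
  · rw [← Category.assoc, show τ' ≫ pullback.fst s b = _ from pullback.lift_fst _ _ _]
    simp only [Category.assoc]
    rw [h2, bc_fst_assoc]
  · change (bc s f hb').left ⁻¹ᵁ P'.Z = τ'.left ⁻¹ᵁ ((bc s f hb).left ⁻¹ᵁ P.Z)
    rw [h3, ← Scheme.Hom.comp_preimage, ← Scheme.Hom.comp_preimage, ← Over.comp_left,
      ← Over.comp_left, hτ]

/-- Translation of a piece along a section of it. -/
theorem exists_translate (h : IsEqvRel s t) {T : Over S} {a a' : T ⟶ U} (P : Piece he a)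
    (het : e ≫ t = 𝟙 U) (z : T ⟶ pullback s a) (hz : z ≫ pullback.snd s a = 𝟙 T)
    (hza : z ≫ pullback.fst s a ≫ t = a') (hmem : ∀ τ, z.left τ ∈ P.Z) :
    ∃ P' : Piece he a', Equivalent t P P' := by
  obtain ⟨i, hit, his, -⟩ := exists_inverse h
  obtain ⟨d, hdt, hds⟩ := exists_comp h (pullback.fst s a')
    (pullback.snd s a' ≫ z ≫ pullback.fst s a)
    (by simp only [Category.assoc, hza, pullback.condition])
  let τ : pullback s a' ⟶ pullback s a := pullback.lift d (pullback.snd s a') (by
    simp only [hds, Category.assoc, pullback.condition]; rw [reassoc_of% hz])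
  have h1 : τ ≫ pullback.snd s a = pullback.snd s a' := pullback.lift_snd _ _ _
  have h2 : τ ≫ pullback.fst s a ≫ t = pullback.fst s a' ≫ t := by
    rw [← Category.assoc, show τ ≫ pullback.fst s a = d from pullback.lift_fst _ _ _, hdt]
  let ca := z ≫ pullback.fst s a ≫ i
  obtain ⟨d', hdt', hds'⟩ := exists_comp h (pullback.fst s a) (pullback.snd s a ≫ ca)
    (by simp only [ca, Category.assoc, hit, pullback.condition]; rw [reassoc_of% hz])
  let τ' : pullback s a ⟶ pullback s a' := pullback.lift d' (pullback.snd s a)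
    (by simp only [hds', ca, Category.assoc, his, hza])
  have h1' : τ' ≫ pullback.snd s a' = pullback.snd s a := pullback.lift_snd _ _ _
  have h2' : τ' ≫ pullback.fst s a' ≫ t = pullback.fst s a ≫ t := by
    rw [← Category.assoc, show τ' ≫ pullback.fst s a' = d' from pullback.lift_fst _ _ _, hdt']
  haveI : IsIso τ := ⟨τ', ext_target h (by rw [Category.assoc, h2', h2, Category.id_comp])
      (by rw [Category.assoc, h1', h1, Category.id_comp]),
    ext_target h (by rw [Category.assoc, h2, h2', Category.id_comp])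
      (by rw [Category.assoc, h1, h1', Category.id_comp])⟩
  haveI : IsIso τ.left := inferInstanceAs (IsIso ((Over.forget S).map τ))
  refine ⟨⟨τ.left ⁻¹ᵁ P.Z, ?_, fun x => ?_⟩, τ, h1, h2, rfl⟩
  · rw [show (pullback.snd s a').left = τ.left ≫ (pullback.snd s a).left by
      rw [← Over.comp_left, h1], ← Category.assoc, ← morphismRestrict_ι, Category.assoc]
    exact (MorphismProperty.cancel_left_of_respectsIso @IsFinite _ _).2 P.fin
  · have : eT he a' ≫ τ = z := ext_target h
      (by rw [Category.assoc, h2, eT_fst_assoc, het, Category.comp_id, hza])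
      (by rw [Category.assoc, h1, eT_snd, hz])
    change τ.left ((eT he a').left x) ∈ P.Z
    rw [← Scheme.Hom.comp_apply, ← Over.comp_left, this]
    exact hmem x

end Groth.Agent.Lib.Bootstrap.QFin
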