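import Groth.Agent.Lib.Bootstrap.QFin.Family
import Groth.Agent.Lib.AlgSpMor.LqfRep
import Groth.Agent.Lib.SourceDescent.Scheme

/-!
# The universal piece

Finite open pieces containing the identity are classified by an etale separated scheme over `U`.
-/

set_option autoImplicit false
set_option linter.style.haveILetI false

universe u

open CategoryTheory CategoryTheory.Limits AlgebraicGeometry Opposite

namespace Groth.Agent.Lib.Bootstrap.QFin

open Groth.Agent.Lib.AlgSpace
open AlgSp (Sp yon IsEqvRel IsEtaleEqvRel RepWith IsSeparatedMor)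

variable {S : Scheme.{u}} {R U : Over S} {s : R ⟶ U} {e : U ⟶ R} {he : e ≫ s = 𝟙 U}

theorem fppfCover_of_etale {X Y : Scheme.{u}} (f : X ⟶ Y) [Etale f] [Surjective f] : fppfCover f :=
  fppfCover_mk f

theorem hom_ext_of_fppfCover {T T' X : Over S} (c : T' ⟶ T) (hc : fppfCover c.left) {f g : T ⟶ X}
    (h : c ≫ f = c ≫ g) : f = g := by
  haveI := epi_yon_map c hc
  refine (yon S).map_injective ((cancel_epi ((yon S).map c)).1 ?_)
  rw [← Functor.map_comp, ← Functor.map_comp, h]

section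

variable {T₀ : Over S} {b₀ : T₀ ⟶ U} (Q₀ : Piece he b₀)

/-- Two points of the chart carry the same piece. -/
def SameAs {T : Over S} (x y : T ⟶ T₀) : Prop :=
  ∃ (a : T ⟶ U) (hx : x ≫ b₀ = a) (hy : y ≫ b₀ = a), Q₀.pull x hx = Q₀.pull y hy

theorem sameAs_equivalence (T : Over S) : Equivalence (SameAs Q₀ (T := T)) where
  refl x := ⟨_, rfl, rfl, rfl⟩
  symm := fun ⟨a, hx, hy, h⟩ => ⟨a, hy, hx, h.symm⟩
  trans := by
    rintro x y z ⟨a, hx, hy, h⟩ ⟨a', hy', hz, h'⟩
    obtain rfl : a = a' := hy.symm.trans hy'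
    exact ⟨a, hx, hz, h.trans h'⟩

variable [IsSeparated s.left]

/-- Where the two pullbacks of the piece agree. -/
noncomputable def locus₂ : (pullback b₀ b₀).left.Opens :=
  eqLocus (Q₀.pull (pullback.fst b₀ b₀) rfl) (Q₀.pull (pullback.snd b₀ b₀) pullback.condition.symm)

/-- The relation on the chart. -/
noncomputable def rel₂ : Over S := Over.mk ((locus₂ Q₀).ι ≫ (pullback b₀ b₀).hom)

/-- Its inclusion. -/
noncomputable def ι₂ : rel₂ Q₀ ⟶ pullback b₀ b₀ := Over.homMk (locus₂ Q₀).ι rfl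

instance : IsOpenImmersion (ι₂ Q₀).left := by
  change IsOpenImmersion (locus₂ Q₀).ι
  infer_instance

instance : Mono (ι₂ Q₀) := Over.mono_of_mono_left _

theorem exists_lift_ι₂ {T : Over S} (f : T ⟶ pullback b₀ b₀) (h : ∀ τ, f.left τ ∈ locus₂ Q₀) :
    ∃ g, g ≫ ι₂ Q₀ = f := by
  have hr : Set.range f.left ⊆ Set.range (locus₂ Q₀).ι := by
    rintro _ ⟨τ, rfl⟩
    exact (locus₂ Q₀).range_ι.symm.subset (h τ)
  have w : IsOpenImmersion.lift (locus₂ Q₀).ι f.left hr ≫ (locus₂ Q₀).ι ≫
      (pullback b₀ b₀).hom = T.hom := by rw [IsOpenImmersion.lift_fac_assoc, Over.w]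
  let l : T.left ⟶ (locus₂ Q₀).toScheme := IsOpenImmersion.lift (locus₂ Q₀).ι f.left hr
  exact ⟨Over.homMk l w, Over.OverMorphism.ext (IsOpenImmersion.lift_fac (locus₂ Q₀).ι f.left hr)⟩

theorem sameAs_iff {T : Over S} (x y : T ⟶ T₀) :
    SameAs Q₀ x y ↔
      ∃ r : T ⟶ rel₂ Q₀, r ≫ ι₂ Q₀ ≫ pullback.fst b₀ b₀ = x ∧
        r ≫ ι₂ Q₀ ≫ pullback.snd b₀ b₀ = y := by
  constructor
  · rintro ⟨a, hx, hy, h⟩
    let f := pullback.lift x y (hx.trans hy.symm)
    have h1 : f ≫ pullback.fst b₀ b₀ = x := pullback.lift_fst _ _ _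
    have h2 : f ≫ pullback.snd b₀ b₀ = y := pullback.lift_snd _ _ _
    have hmem := (pull_eq_pull_iff (Q₀.pull (pullback.fst b₀ b₀) rfl)
      (Q₀.pull (pullback.snd b₀ b₀) pullback.condition.symm) f
      (a' := a) (by rw [← Category.assoc, h1, hx])).1 (by
        rw [Piece.pull_pull, Piece.pull_pull, Q₀.pull_congr h1, Q₀.pull_congr h2]
        exact h)
    obtain ⟨r, hr⟩ := exists_lift_ι₂ Q₀ f hmem
    exact ⟨r, by rw [reassoc_of% hr, h1], by rw [reassoc_of% hr, h2]⟩
  · rintro ⟨r, h1, h2⟩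
    have hc : y ≫ b₀ = x ≫ b₀ := by
      rw [← h1, ← h2]; simp only [Category.assoc, pullback.condition]
    refine ⟨x ≫ b₀, rfl, hc, ?_⟩
    have hmem : ∀ τ, (r ≫ ι₂ Q₀).left τ ∈ locus₂ Q₀ := fun τ => (r.left τ).2
    have := (pull_eq_pull_iff (Q₀.pull (pullback.fst b₀ b₀) rfl)
      (Q₀.pull (pullback.snd b₀ b₀) pullback.condition.symm) (r ≫ ι₂ Q₀)
      (a' := x ≫ b₀) (by rw [← h1]; simp only [Category.assoc])).2 hmem
    rw [Piece.pull_pull, Piece.pull_pull,
      Q₀.pull_congr (show (r ≫ ι₂ Q₀) ≫ pullback.fst b₀ b₀ = x by rw [Category.assoc, h1]),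
      Q₀.pull_congr (show (r ≫ ι₂ Q₀) ≫ pullback.snd b₀ b₀ = y by rw [Category.assoc, h2])] at this
    exact this

theorem isEtaleEqvRel_rel₂ [Etale b₀.left] :
    IsEtaleEqvRel (ι₂ Q₀ ≫ pullback.snd b₀ b₀) (ι₂ Q₀ ≫ pullback.fst b₀ b₀) := by
  haveI : Etale (pullback.fst b₀ b₀).left :=
    MorphismProperty.of_isPullback ((IsPullback.of_hasPullback b₀ b₀).map (Over.forget S)).flip
      ‹Etale b₀.left›
  haveI : Etale (pullback.snd b₀ b₀).left :=
    MorphismProperty.of_isPullback ((IsPullback.of_hasPullback b₀ b₀).map (Over.forget S))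
      ‹Etale b₀.left›
  refine ⟨⟨fun T r r' h1 h2 => ?_, fun T => ?_⟩,
    inferInstanceAs (Etale ((ι₂ Q₀).left ≫ (pullback.snd b₀ b₀).left)),
    inferInstanceAs (Etale ((ι₂ Q₀).left ≫ (pullback.fst b₀ b₀).left))⟩
  · exact (cancel_mono (ι₂ Q₀)).1 (pullback.hom_ext (by simpa only [Category.assoc] using h1)
      (by simpa only [Category.assoc] using h2))
  · have : (fun a b : T ⟶ T₀ => ∃ r : T ⟶ rel₂ Q₀, r ≫ ι₂ Q₀ ≫ pullback.fst b₀ b₀ = a ∧
        r ≫ ι₂ Q₀ ≫ pullback.snd b₀ b₀ = b) = SameAs Q₀ (T := T) :=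
      funext fun a => funext fun b => propext (sameAs_iff Q₀ a b).symm
    rw [this]
    exact sameAs_equivalence Q₀ T

theorem isClosedImmersion_ι₂ [Flat s.left] [LocallyOfFinitePresentation s.left] :
    IsClosedImmersion (ι₂ Q₀).left := by
  refine .of_isPreimmersion (locus₂ Q₀).ι ?_
  rw [Scheme.Opens.range_ι]
  exact isClosed_eqLocus _ _

/-- The chart has a separated etale scheme as quotient by its relation. -/
theorem exists_quotient [Flat s.left] [LocallyOfFinitePresentation s.left] [Etale b₀.left] :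
    ∃ (W : Over S) (aW : W ⟶ U) (p : T₀ ⟶ W), p ≫ aW = b₀ ∧ Etale p.left ∧ Surjective p.left ∧
      Etale aW.left ∧ IsSeparated aW.left ∧
      IsPullback (ι₂ Q₀ ≫ pullback.fst b₀ b₀) (ι₂ Q₀ ≫ pullback.snd b₀ b₀) p p := by
  have hE := isEtaleEqvRel_rel₂ Q₀
  let ε₁ := ι₂ Q₀ ≫ pullback.fst b₀ b₀
  let ε₂ := ι₂ Q₀ ≫ pullback.snd b₀ b₀
  let π := quotMap ε₂ ε₁
  haveI : Sheaf.IsLocallySurjective π := isLocallySurjective_quotMap ε₂ ε₁
  have sqπ : IsPullback ((yon S).map ε₁) ((yon S).map ε₂) π π := isPullback_quot hE.toIsEqvRel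
  have hX := isAlgSpace_quot hE
  have hP := isPresentation_quot hE
  obtain ⟨f, hf⟩ := exists_desc π sqπ ((yon S).map b₀) (by
    simp only [← Functor.map_comp, ε₁, ε₂, Category.assoc, pullback.condition])
  have hlqf : AlgSp.LocP
      (@LocallyQuasiFinite ⊓ @LocallyOfFiniteType : MorphismProperty Scheme.{u}) f :=
    Lib.AlgSpMor.LocP.locP_of_chart Lib.AlgSpMor.LocP.lqfLft hX.diag
      (AlgSp.IsAlgSpace.yon_obj U).diag hP.etale hP.surjective (b := 𝟙 ((yon S).obj U))
      (by rw [← (yon S).map_id]; exact repWith_etale_yon_map (show Etale (𝟙 U.left) from inferInstance))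
      (h := b₀) (by rw [Category.comp_id]; exact hf)
      ⟨SourceDescent.Scheme.locallyQuasiFinite_of_etale b₀.left, inferInstance⟩
  have hsep : IsSeparatedMor f := by
    have := Lib.AlgSpMor.Sep.isLocalAtTarget_fppf_isClosedImmersion.{u}
    have hcond : ((yon S).map (pullback.fst b₀ b₀) ≫ π) ≫ f =
        ((yon S).map (pullback.snd b₀ b₀) ≫ π) ≫ f := by
      simp only [Category.assoc, hf, ← Functor.map_comp, pullback.condition]
    let ψ : (yon S).obj (pullback b₀ b₀) ⟶ pullback f f :=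
      pullback.lift ((yon S).map (pullback.fst b₀ b₀) ≫ π) ((yon S).map (pullback.snd b₀ b₀) ≫ π)
        hcond
    have hψ₁ : ψ ≫ pullback.fst f f = (yon S).map (pullback.fst b₀ b₀) ≫ π := pullback.lift_fst _ _ _
    have hψ₂ : ψ ≫ pullback.snd f f = (yon S).map (pullback.snd b₀ b₀) ≫ π := pullback.lift_snd _ _ _
    haveI : Sheaf.IsLocallySurjective ψ := isLocallySurjective_of_lift _ fun T c => by
      obtain ⟨T₁, c₁, x, hc₁, hx⟩ := exists_lift_of_isLocallySurjective π (c ≫ pullback.fst f f)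
      obtain ⟨T₂, c₂, y, hc₂, hy⟩ :=
        exists_lift_of_isLocallySurjective π ((yon S).map c₁ ≫ c ≫ pullback.snd f f)
      obtain ⟨x, rfl⟩ := (yon S).map_surjective x
      obtain ⟨y, rfl⟩ := (yon S).map_surjective y
      have w : (c₂ ≫ x) ≫ b₀ = y ≫ b₀ := by
        apply (yon S).map_injective
        simp only [Functor.map_comp, Category.assoc, ← hf]
        rw [reassoc_of% hx, reassoc_of% hy, pullback.condition]
      refine ⟨T₂, c₂ ≫ c₁, (yon S).map (pullback.lift (c₂ ≫ x) y w),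
        MorphismProperty.comp_mem fppfCover _ _ hc₂ hc₁, ?_⟩
      apply pullback.hom_ext
      · rw [Category.assoc, hψ₁, ← Category.assoc, ← Functor.map_comp, pullback.lift_fst]
        simp only [Functor.map_comp, Category.assoc, hx]
      · rw [Category.assoc, hψ₂, ← Category.assoc, ← Functor.map_comp, pullback.lift_snd]
        simp only [Functor.map_comp, Category.assoc, hy]
    have sq : IsPullback ((yon S).map ε₁ ≫ π) ((yon S).map (ι₂ Q₀)) (pullback.diagonal f) ψ := by
      refine isPullback_of_yon ?_ (fun T c c' _ h => ?_) fun T a c w => ?_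
      · apply pullback.hom_ext
        · simp only [Category.assoc, pullback.diagonal_fst, Category.comp_id, hψ₁, ε₁,
            Functor.map_comp]
        · simp only [Category.assoc, pullback.diagonal_snd, Category.comp_id, hψ₂]
          rw [sqπ.w]
          simp only [ε₂, Functor.map_comp, Category.assoc]
          try rfl
      · obtain ⟨c, rfl⟩ := (yon S).map_surjective c
        obtain ⟨c', rfl⟩ := (yon S).map_surjective c'
        rw [← Functor.map_comp, ← Functor.map_comp] at h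
        rw [(cancel_mono _).1 ((yon S).map_injective h)]
      · have w₁ : a = c ≫ (yon S).map (pullback.fst b₀ b₀) ≫ π := by
          simpa only [Category.assoc, pullback.diagonal_fst, Category.comp_id, hψ₁] using
            congr($w ≫ pullback.fst f f)
        have w₂ : a = c ≫ (yon S).map (pullback.snd b₀ b₀) ≫ π := by
          simpa only [Category.assoc, pullback.diagonal_snd, Category.comp_id, hψ₂] using
            congr($w ≫ pullback.snd f f)
        obtain ⟨c, rfl⟩ := (yon S).map_surjective c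
        obtain ⟨r, hr⟩ := (yon S).map_surjective
          (sqπ.lift ((yon S).map (c ≫ pullback.fst b₀ b₀)) ((yon S).map (c ≫ pullback.snd b₀ b₀)) (by
            simp only [Functor.map_comp, Category.assoc, ← w₁, ← w₂]))
        have hr₁ : r ≫ ε₁ = c ≫ pullback.fst b₀ b₀ :=
          (yon S).map_injective (by rw [Functor.map_comp, hr, sqπ.lift_fst])
        have hr₂ : r ≫ ε₂ = c ≫ pullback.snd b₀ b₀ :=
          (yon S).map_injective (by rw [Functor.map_comp, hr, sqπ.lift_snd])
        refine ⟨(yon S).map r, ?_, ?_⟩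
        · rw [← Category.assoc, ← Functor.map_comp, hr₁, Functor.map_comp, Category.assoc, ← w₁]
        · have hrc : r ≫ ι₂ Q₀ = c := pullback.hom_ext ((Category.assoc _ _ _).trans hr₁)
            ((Category.assoc _ _ _).trans hr₂)
          rw [← Functor.map_comp, hrc]
    exact repWith_of_isLocallySurjective (Lib.AlgSpMor.Sep.representable_diagonal f hX.diag) ψ sq
      @IsClosedImmersion ((AlgSp.repWith_yon_map_iff _ _).2 (isClosedImmersion_ι₂ Q₀))
  obtain ⟨W, ⟨E⟩⟩ := Lib.AlgSpMor.LqfRep.exists_iso hX f hlqf hsep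
  obtain ⟨aW, haW⟩ := (yon S).map_surjective (E.hom ≫ f)
  obtain ⟨p, hp⟩ := (yon S).map_surjective (π ≫ E.inv)
  have hpW : p ≫ aW = b₀ := by
    apply (yon S).map_injective
    rw [Functor.map_comp, haW, hp, Category.assoc, E.inv_hom_id_assoc, hf]
  haveI : Etale p.left := (AlgSp.repWith_yon_map_iff _ p).1 (by
    rw [hp]; exact MorphismProperty.RespectsIso.postcomp _ _ _ hP.etale)
  haveI : Surjective p.left := (AlgSp.repWith_yon_map_iff _ p).1 (by
    rw [hp]; exact MorphismProperty.RespectsIso.postcomp _ _ _ hP.surjective)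
  have hsepW : IsSeparatedMor ((yon S).map aW) :=
    Lib.AlgSpMor.Sep.repWith_diagonal_baseChange
      (show IsPullback E.hom ((yon S).map aW) f (𝟙 _) from
        IsPullback.of_horiz_isIso ⟨by rw [Category.comp_id]; exact haW.symm⟩) hsep
  refine ⟨W, aW, p, hpW, inferInstance, inferInstance, ?_,
    (AlgSp.isSeparatedMor_yon_map_iff aW).1 hsepW, isPullback_of_yon_map ?_⟩
  · refine SourceDescent.Scheme.etale.descends p.left aW.left inferInstance inferInstance ?_
    rw [← Over.comp_left, hpW]; infer_instance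
  · rw [hp]
    exact IsPullback.of_iso sqπ (Iso.refl _) (Iso.refl _) (Iso.refl _) E.symm (by simp [ε₁])
      (by simp [ε₂]) (by simp) (by simp)

end

variable (he) in
/-- The universal piece. -/
theorem exists_universal [IsSeparated s.left] [LocallyQuasiFinite s.left] [Flat s.left]
    [LocallyOfFinitePresentation s.left] :
    ∃ (W : Over S) (aW : W ⟶ U) (Q : Piece he aW), Etale aW.left ∧ IsSeparated aW.left ∧
      Surjective aW.left ∧ ∀ (T : Over S) (a : T ⟶ U) (P : Piece he a),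
        ∃! f : T ⟶ W, ∃ h : f ≫ aW = a, Q.pull f h = P := by
  obtain ⟨T₀, b₀, Q₀, hb₀, hb₀s, H⟩ := exists_family he
  obtain ⟨W, aW, p, hpW, hpe, hps, hWe, hWs, sqp⟩ := exists_quotient Q₀
  have hpc : fppfCover p.left := fppfCover_of_etale p.left
  have hsame : ∀ {T : Over S} (x y : T ⟶ T₀), SameAs Q₀ x y → x ≫ p = y ≫ p := fun x y hxy => by
    obtain ⟨r, rfl, rfl⟩ := (sameAs_iff Q₀ x y).1 hxy
    simp only [Category.assoc]
    exact congrArg (r ≫ ·) (by simpa only [Category.assoc] using sqp.w)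
  let a₂ := (ι₂ Q₀ ≫ pullback.fst b₀ b₀) ≫ b₀
  have hQ₀ : Q₀.pull (ι₂ Q₀ ≫ pullback.fst b₀ b₀) (a' := a₂) rfl =
      Q₀.pull (ι₂ Q₀ ≫ pullback.snd b₀ b₀) (a' := a₂)
        (by simp only [a₂, Category.assoc, pullback.condition]) := by
    obtain ⟨a', h1, h2, h⟩ := (sameAs_iff Q₀ (ι₂ Q₀ ≫ pullback.fst b₀ b₀)
      (ι₂ Q₀ ≫ pullback.snd b₀ b₀)).2 ⟨𝟙 _, Category.id_comp _, Category.id_comp _⟩
    obtain rfl : a₂ = a' := h1
    exact h
  obtain ⟨Q, hQ⟩ := exists_descend p hpc hpW sqp rfl _ Q₀ hQ₀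
  have hQp : ∀ {T : Over S} (x : T ⟶ T₀) {f : T ⟶ W} {a : T ⟶ U} (hx : x ≫ p = f)
      (h : f ≫ aW = a) (h' : x ≫ b₀ = a), Q.pull f h = Q₀.pull x h' := fun x f a hx h h' => by
    rw [← hQ, Piece.pull_pull]
    exact Q.pull_congr hx.symm _
  refine ⟨W, aW, Q, hWe, hWs, ⟨fun u => ?_⟩, fun T a P => ?_⟩
  · obtain ⟨x, hx⟩ := b₀.left.surjective u
    exact ⟨p.left x, by rw [← Scheme.Hom.comp_apply, ← Over.comp_left, hpW, hx]⟩
  let O := eqLocus (P.pull (pullback.fst a b₀) rfl)
    (Q₀.pull (pullback.snd a b₀) pullback.condition.symm)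
  let T' : Over S := Over.mk (O.ι ≫ (pullback a b₀).hom)
  let j : T' ⟶ pullback a b₀ := Over.homMk O.ι rfl
  haveI : Etale (pullback.fst a b₀).left :=
    MorphismProperty.of_isPullback ((IsPullback.of_hasPullback a b₀).map (Over.forget S)).flip hb₀
  let c : T' ⟶ T := j ≫ pullback.fst a b₀
  let g : T' ⟶ T₀ := j ≫ pullback.snd a b₀
  haveI : Etale c.left := inferInstanceAs (Etale (O.ι ≫ (pullback.fst a b₀).left))
  haveI : Surjective c.left := ⟨fun τ => by
    obtain ⟨w, hw, hwO⟩ := H T a P τ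
    exact ⟨⟨w, hwO⟩, hw⟩⟩
  have hc : fppfCover c.left := fppfCover_of_etale c.left
  have hgc : g ≫ b₀ = c ≫ a := by simp only [g, c, Category.assoc, pullback.condition]
  have hPc : P.pull c rfl = Q₀.pull g hgc := by
    have := (pull_eq_pull_iff _ _ j (a' := c ≫ a) (by simp only [c, Category.assoc])).2
      (fun τ => (show j.left τ ∈ O from τ.2))
    rwa [Piece.pull_pull, Piece.pull_pull] at this
  have sqc := IsPullback.of_hasPullback c c
  have key : pullback.fst c c ≫ g ≫ p = pullback.snd c c ≫ g ≫ p := by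
    refine ((Category.assoc _ _ _).symm.trans (hsame (pullback.fst c c ≫ g) (pullback.snd c c ≫ g)
      ⟨pullback.fst c c ≫ c ≫ a, by rw [Category.assoc, hgc],
        by rw [Category.assoc, hgc, pullback.condition_assoc], ?_⟩)).trans (Category.assoc _ _ _)
    rw [← Q₀.pull_pull g hgc, ← Q₀.pull_pull g hgc, ← hPc, Piece.pull_pull, Piece.pull_pull]
    · exact P.pull_congr pullback.condition _
    all_goals simp only [Category.assoc, pullback.condition_assoc]
  haveI := isLocallySurjective_yon_map c hc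
  obtain ⟨l, hl⟩ := exists_desc ((yon S).map c) (sqc.map (yon S)) ((yon S).map (g ≫ p)) (by
    rw [← Functor.map_comp, ← Functor.map_comp, key])
  obtain ⟨f, rfl⟩ := (yon S).map_surjective l
  rw [← Functor.map_comp] at hl
  have hcf : c ≫ f = g ≫ p := (yon S).map_injective hl
  have hfa : f ≫ aW = a := hom_ext_of_fppfCover c hc (by rw [reassoc_of% hcf, hpW, hgc])
  refine ⟨f, ⟨hfa, ?_⟩, fun f' ⟨hfa', hf'⟩ => ?_⟩
  · refine pull_injective _ _ c rfl ?_
    rw [Piece.pull_pull, hPc]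
    exact hQp g hcf.symm _ hgc
  · have hf : Q.pull f hfa = P := pull_injective _ _ c rfl (by
      rw [Piece.pull_pull, hPc]
      exact hQp g hcf.symm _ hgc)
    let π₁ := pullback.fst f p
    let π₂ := pullback.fst (π₁ ≫ f') p
    let x := π₂ ≫ pullback.snd f p
    let y := pullback.snd (π₁ ≫ f') p
    have hπ : fppfCover (π₂ ≫ π₁).left :=
      MorphismProperty.comp_mem fppfCover _ _
        (MorphismProperty.of_isPullback
          ((IsPullback.of_hasPullback (π₁ ≫ f') p).map (Over.forget S)).flip hpc)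
        (MorphismProperty.of_isPullback ((IsPullback.of_hasPullback f p).map (Over.forget S)).flip hpc)
    have hx : x ≫ p = (π₂ ≫ π₁) ≫ f := by simp only [x, π₁, Category.assoc, pullback.condition]
    have hy : y ≫ p = (π₂ ≫ π₁) ≫ f' := by simp only [y, π₂, Category.assoc, pullback.condition]
    refine hom_ext_of_fppfCover (π₂ ≫ π₁) hπ ?_
    rw [← hx, ← hy]
    have hxa : x ≫ b₀ = (π₂ ≫ π₁) ≫ a := by rw [← hpW, ← Category.assoc, hx, Category.assoc, hfa]
    have hya : y ≫ b₀ = (π₂ ≫ π₁) ≫ a := by rw [← hpW, ← Category.assoc, hy, Category.assoc, hfa']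
    refine (hsame _ _ ⟨_, hxa, hya, ?_⟩).symm
    rw [← hQp x hx (by rw [Category.assoc, hfa]) hxa, ← hQp y hy (by rw [Category.assoc, hfa']) hya,
      ← Q.pull_pull f hfa, ← Q.pull_pull f' hfa', hf, hf']
    all_goals rfl

end Groth.Agent.Lib.Bootstrap.QFin
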